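import Groth.Agent.EtRam7.ASStep
import Mathlib

/-! Roots of nearby polynomials in a valued algebraically closed field. -/

set_option autoImplicit false
set_option linter.style.haveILetI false
set_option linter.unusedSectionVars false
universe u

namespace Groth.Agent.EtRam7.EppGen

open Polynomial

variable {Ω : Type u} [Field Ω] (W : ValuationSubring Ω)

/-- Some root is as close to a point as the value allows. -/
theorem exists_root_close [IsAlgClosed Ω] {P : Polynomial Ω} (hP : P.Monic) (hd : 0 < P.natDegree) (x : Ω) :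
    ∃ r, P.IsRoot r ∧ W.valuation (x - r) ^ P.natDegree ≤ W.valuation (P.eval x) := by
  classical
  have hs : P.Splits := IsAlgClosed.splits P
  have hcard : P.roots.card = P.natDegree := hs.natDegree_eq_card_roots.symm
  have hne : P.roots.toFinset.Nonempty := by
    rw [Finset.nonempty_iff_ne_empty, Ne, Multiset.toFinset_eq_empty]
    intro h0; rw [h0, Multiset.card_zero] at hcard; omega
  obtain ⟨r, hr, hmin⟩ := P.roots.toFinset.exists_min_image (fun r => W.valuation (x - r)) hne
  refine ⟨r, isRoot_of_mem_roots (Multiset.mem_toFinset.1 hr), ?_⟩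
  conv_rhs => rw [hs.eq_prod_roots_of_monic hP, eval_multiset_prod, Multiset.map_map, map_multiset_prod, Multiset.map_map]
  have h1 := Multiset.prod_map_le_prod_map₀ (fun _ => W.valuation (x - r)) (fun s => W.valuation (x - s))
    (s := P.roots) (fun _ _ => zero_le) (fun s hs => hmin s (Multiset.mem_toFinset.2 hs))
  rw [Multiset.map_const', Multiset.prod_replicate, hcard] at h1
  refine h1.trans (le_of_eq (congrArg Multiset.prod (Multiset.map_congr rfl fun s _ => ?_)))
  simp

/-- Roots of monic polynomials over `W` lie in `W`. -/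
theorem mem_of_root {f : Polynomial W} (hf : f.Monic) {r : Ω} (hr : eval₂ W.subtype r f = 0) : r ∈ W := by
  obtain ⟨y, hy⟩ := (IsIntegrallyClosed.isIntegral_iff (R := W) (K := Ω)).1 ⟨f, hf, hr⟩
  exact hy ▸ y.2

theorem valuation_eval_le {f : Polynomial W} {x : Ω} (hx : x ∈ W) : W.valuation (eval₂ W.subtype x f) ≤ 1 := by
  rw [show eval₂ W.subtype x f = ((f.eval ⟨x, hx⟩ : W) : Ω) from eval₂_at_apply W.subtype ⟨x, hx⟩]
  exact (W.valuation_le_one_iff _).2 (f.eval _).2

/-- Close coefficients give close values. -/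
theorem valuation_eval_sub_le {P Q : Polynomial Ω} {x : Ω} (hx : W.valuation x ≤ 1) {d : Ω}
    (h : ∀ i, W.valuation (P.coeff i - Q.coeff i) ≤ W.valuation d) :
    W.valuation (P.eval x - Q.eval x) ≤ W.valuation d := by
  rw [← eval_sub, eval_eq_sum_range]
  refine W.valuation.map_sum_le fun i _ => ?_
  rw [map_mul, map_pow, coeff_sub]
  exact mul_le_of_le_of_le_one (h i) (pow_le_one₀ zero_le hx)

/-- The resultant with the derivative bounds the derivative at roots from below. -/
theorem valuation_resultant_le {f : Polynomial W} (hf : f.Monic) (hd : 0 < f.natDegree) {r : Ω}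
    (hr : eval₂ W.subtype r f = 0) :
    W.valuation (f.resultant (derivative f) f.natDegree (f.natDegree - 1) : W) ≤
      W.valuation (eval₂ W.subtype r (derivative f)) := by
  have hrW := mem_of_root W hf hr
  obtain ⟨a, b, -, -, hab⟩ := exists_mul_add_mul_eq_C_resultant f (derivative f) (m := f.natDegree) (n := f.natDegree - 1)
    le_rfl (natDegree_derivative_le f) (Or.inl hd.ne')
  have h1 := congrArg (eval₂ W.subtype r) hab
  rw [eval₂_add, eval₂_mul, eval₂_mul, hr, zero_mul, zero_add, eval₂_C] at h1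
  rw [show ((f.resultant (derivative f) f.natDegree (f.natDegree - 1) : W) : Ω) = W.subtype _ from rfl, ← h1, map_mul]
  exact mul_le_of_le_one_right' (valuation_eval_le W hrW)

variable {L : Type u} [Field L] [Algebra L Ω]

/-- Krasner's lemma. -/
theorem mem_of_close [IsAlgClosed Ω] [Algebra.IsAlgebraic L Ω] (hW : ∀ σ : Ω ≃ₐ[L] Ω, W.comap (σ : Ω →+* Ω) = W)
    (F : IntermediateField L Ω) {f : Polynomial W} (hf : f.Monic) (hfF : ∀ i, ((f.coeff i : W) : Ω) ∈ F) {r β c : Ω}
    (hr : eval₂ W.subtype r f = 0) (hβ : β ∈ F) (hc : c ∈ F)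
    (h1 : W.valuation (r - β) < W.valuation c) (h2 : W.valuation c ≤ W.valuation (eval₂ W.subtype r (derivative f))) :
    r ∈ F := by
  classical
  haveI : Algebra.IsAlgebraic F Ω := Algebra.IsAlgebraic.tower_top (K := L) F
  haveI : IsAlgClosure F Ω := ⟨inferInstance, inferInstance⟩
  haveI : Normal F Ω := IsAlgClosure.normal F Ω
  have hc0 : c ≠ 0 := fun h => by simp [h] at h1
  have hder : eval₂ W.subtype r (derivative f) ≠ 0 := fun h => by
    rw [h, map_zero, le_zero_iff] at h2
    exact hc0 ((Valuation.zero_iff _).1 h2)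
  have hlift : f.map W.subtype ∈ lifts (algebraMap F Ω) :=
    (lifts_iff_coeff_lifts _).2 fun i => ⟨⟨_, hfF i⟩, by rw [coeff_map]; rfl⟩
  obtain ⟨g, hg⟩ := hlift
  have hg' : g.map (algebraMap F Ω) = f.map W.subtype := hg
  have hint : IsIntegral F r := Algebra.IsIntegral.isIntegral r
  have hg0 : aeval r g = 0 := by rw [aeval_def, eval₂_eq_eval_map, hg', eval_map, hr]
  obtain ⟨q, hq⟩ := minpoly.dvd F r hg0
  have hsep : (minpoly F r).Separable := by
    rw [separable_iff_derivative_ne_zero (minpoly.irreducible hint)]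
    intro h0
    apply hder
    rw [← eval_map, ← derivative_map, ← hg', derivative_map, eval_map, hq, derivative_mul, h0, zero_mul, zero_add,
      eval₂_mul, ← aeval_def, minpoly.aeval, zero_mul]
  by_contra hrF
  have hdeg : 2 ≤ (minpoly F r).natDegree := (minpoly.two_le_natDegree_iff hint).2 fun ⟨y, hy⟩ => hrF (hy ▸ y.2)
  obtain ⟨r', hr'root, hne⟩ : ∃ r' ∈ (minpoly F r).aroots Ω, r' ≠ r := by
    by_contra hh
    push Not at hh
    have hnd : ((minpoly F r).aroots Ω).Nodup := nodup_roots hsep.map
    have hcard : ((minpoly F r).aroots Ω).card = (minpoly F r).natDegree := by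
      rw [aroots_def, ← (IsAlgClosed.splits _).natDegree_eq_card_roots, natDegree_map]
    have hsub : ((minpoly F r).aroots Ω).toFinset ⊆ {r} := fun x hx => Finset.mem_singleton.2 (hh x (Multiset.mem_toFinset.1 hx))
    have := Finset.card_le_card hsub
    rw [Multiset.toFinset_card_of_nodup hnd, hcard, Finset.card_singleton] at this
    omega
  obtain ⟨σ, hσ⟩ := minpoly.exists_algEquiv_of_root' (Algebra.IsAlgebraic.isAlgebraic r) (mem_aroots.1 hr'root).2
  have hσW : W.comap ((σ : Ω ≃ₐ[F] Ω) : Ω →+* Ω) = W := hW (σ.restrictScalars L)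
  have hσc : σ c = c := σ.commutes ⟨c, hc⟩
  have hσβ : σ β = β := σ.commutes ⟨β, hβ⟩
  have h3 : W.valuation (r' - β) < W.valuation c := by
    rw [← hσc, ← hσ, ← hσβ, ← map_sub]
    by_contra hh
    push Not at hh
    have h4 : (W.comap ((σ : Ω ≃ₐ[F] Ω) : Ω →+* Ω)).valuation (c / (r - β)) ≤ 1 := by
      rw [ValuationSubring.valuation_le_one_iff]
      show σ (c / (r - β)) ∈ W
      rw [← W.valuation_le_one_iff, map_div₀, map_div₀]
      exact div_le_one_of_le₀ hh zero_le
    rw [hσW, map_div₀, div_le_one₀ ?_] at h4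
    · exact absurd h1 (not_lt.2 h4)
    · refine zero_lt_iff.2 fun h0 => ?_
      rw [(Valuation.zero_iff _).1 h0, map_zero, map_zero, le_zero_iff, Valuation.zero_iff, hσc] at hh
      exact hc0 hh
  have h5 : W.valuation (r - r') < W.valuation c := by
    rw [← sub_sub_sub_cancel_right r r' β]
    exact lt_of_le_of_lt (W.valuation.map_sub _ _) (max_lt h1 h3)
  have hrW := mem_of_root W hf hr
  have hr'0 : eval₂ W.subtype r' f = 0 := by
    rw [← eval_map, ← hg', eval_map, hq, eval₂_mul, ← aeval_def, (mem_aroots.1 hr'root).2, zero_mul]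
  have hr'W := mem_of_root W hf hr'0
  have he : ∀ (x : Ω) (hx : x ∈ W), eval₂ W.subtype x f = 0 → f.eval (⟨x, hx⟩ : W) = 0 := fun x hx h => by
    apply W.subtype_injective
    rw [map_zero, ← eval₂_at_apply]
    exact h
  obtain ⟨g₁, hg₁⟩ := dvd_iff_isRoot.2 (he r hrW hr)
  have hg₁' : g₁.IsRoot (⟨r', hr'W⟩ : W) := by
    have := he r' hr'W hr'0
    rw [hg₁, eval_mul, eval_sub, eval_X, eval_C] at this
    exact (mul_eq_zero.1 this).resolve_left fun h => hne (congrArg Subtype.val (sub_eq_zero.1 h))
  obtain ⟨g₂, hg₂⟩ := dvd_iff_isRoot.2 hg₁'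
  have h6 : W.valuation (eval₂ W.subtype r (derivative f)) ≤ W.valuation (r - r') := by
    rw [hg₁, hg₂]
    simp only [derivative_mul, derivative_sub, derivative_X, derivative_C, sub_zero, one_mul, eval₂_add, eval₂_mul,
      eval₂_sub, eval₂_X, eval₂_C, eval₂_one]
    have e1 : (W.subtype ⟨r, hrW⟩ : Ω) = r := rfl
    have e2 : (W.subtype ⟨r', hr'W⟩ : Ω) = r' := rfl
    rw [e1, e2, sub_self, zero_mul, add_zero, map_mul]
    exact mul_le_of_le_one_right' (valuation_eval_le W hrW)
  exact absurd (h2.trans h6) (not_le.2 h5)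

end Groth.Agent.EtRam7.EppGen
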