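import Mathlib

/-! Elements approximable by a chain of subfields, and a polynomial constructor. -/

set_option autoImplicit false
set_option linter.unusedSectionVars false
universe u

namespace Groth.Agent.EtRam7.EppGen

open Polynomial

/-- The monic polynomial of degree `n` with lower coefficients `a`. -/
noncomputable def polyOf {R : Type u} [CommRing R] (n : ℕ) (a : ℕ → R) : R[X] :=
  X ^ n + ∑ i ∈ Finset.range n, C (a i) * X ^ i

theorem coeff_polyOf {R : Type u} [CommRing R] (n : ℕ) (a : ℕ → R) (i : ℕ) :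
    (polyOf n a).coeff i = if i < n then a i else if i = n then 1 else 0 := by
  rw [polyOf, coeff_add, coeff_X_pow, finsetSum_coeff]
  simp only [coeff_C_mul, coeff_X_pow, mul_ite, mul_one, mul_zero, Finset.sum_ite_eq, Finset.mem_range]
  by_cases h : i < n
  · rw [if_pos h, if_pos h, if_neg h.ne, zero_add]
  · rw [if_neg h, if_neg h, add_zero]

theorem monic_polyOf {R : Type u} [CommRing R] (n : ℕ) (a : ℕ → R) : (polyOf n a).Monic :=
  monic_X_pow_add (lt_of_le_of_lt (degree_sum_le _ _) ((Finset.sup_lt_iff (WithBot.bot_lt_coe n)).2 fun i hi =>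
    lt_of_le_of_lt (degree_C_mul_X_pow_le i _) (WithBot.coe_lt_coe.2 (Finset.mem_range.1 hi))))

theorem natDegree_polyOf {R : Type u} [CommRing R] [Nontrivial R] (n : ℕ) (a : ℕ → R) :
    (polyOf n a).natDegree = n := by
  refine le_antisymm (natDegree_le_iff_coeff_eq_zero.2 fun i hi => ?_) (le_natDegree_of_ne_zero ?_)
  · rw [coeff_polyOf, if_neg (by omega), if_neg (by omega)]
  · rw [coeff_polyOf, if_neg (lt_irrefl n), if_pos rfl]; exact one_ne_zero

theorem map_polyOf {R S : Type u} [CommRing R] [CommRing S] (f : R →+* S) (n : ℕ) (a : ℕ → R) :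
    (polyOf n a).map f = polyOf n (f ∘ a) := by
  simp [polyOf, Polynomial.map_sum]

variable {Ω : Type u} [Field Ω] (W : ValuationSubring Ω) (U : ℕ → Subfield Ω)

/-- Elements approximable to any precision by the fields `U M`, `M` large. -/
def Approximable (x : Ω) : Prop :=
  ∀ c : Ω, c ≠ 0 → ∃ M₀ : ℕ, ∀ M, M₀ ≤ M → ∃ x' ∈ U M, W.valuation (x - x') ≤ W.valuation c

theorem exists_small {c d : Ω} (hc : c ≠ 0) (hd : d ≠ 0) :
    ∃ e : Ω, e ≠ 0 ∧ W.valuation e ≤ W.valuation c ∧ W.valuation e ≤ W.valuation d := by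
  rcases le_total (W.valuation c) (W.valuation d) with h | h
  · exact ⟨c, hc, le_rfl, h⟩
  · exact ⟨d, hd, h, le_rfl⟩

theorem approximable_of_mem {x : Ω} (hx : ∀ M, x ∈ U M) : Approximable W U x :=
  fun c _ => ⟨0, fun M _ => ⟨x, hx M, by simp⟩⟩

theorem Approximable.add {x y : Ω} (hx : Approximable W U x) (hy : Approximable W U y) :
    Approximable W U (x + y) := fun c hc => by
  obtain ⟨M₁, h₁⟩ := hx c hc
  obtain ⟨M₂, h₂⟩ := hy c hc
  refine ⟨max M₁ M₂, fun M hM => ?_⟩
  obtain ⟨x', hx', hxb⟩ := h₁ M (le_trans (le_max_left _ _) hM)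
  obtain ⟨y', hy', hyb⟩ := h₂ M (le_trans (le_max_right _ _) hM)
  refine ⟨x' + y', add_mem hx' hy', ?_⟩
  rw [show x + y - (x' + y') = (x - x') + (y - y') by ring]
  exact W.valuation.map_add_le hxb hyb

theorem Approximable.neg {x : Ω} (hx : Approximable W U x) : Approximable W U (-x) := fun c hc => by
  obtain ⟨M₁, h₁⟩ := hx c hc
  refine ⟨M₁, fun M hM => ?_⟩
  obtain ⟨x', hx', hxb⟩ := h₁ M hM
  exact ⟨-x', neg_mem hx', by rwa [← neg_sub', Valuation.map_neg]⟩

theorem Approximable.mul {x y : Ω} (hx : Approximable W U x) (hy : Approximable W U y) :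
    Approximable W U (x * y) := by
  rcases eq_or_ne x 0 with rfl | hx0
  · rw [zero_mul]; exact approximable_of_mem W U fun M => zero_mem _
  rcases eq_or_ne y 0 with rfl | hy0
  · rw [mul_zero]; exact approximable_of_mem W U fun M => zero_mem _
  intro c hc
  obtain ⟨e, he, he1, he2⟩ := exists_small W (div_ne_zero hc hy0) hx0
  obtain ⟨M₁, h₁⟩ := hx e he
  obtain ⟨M₂, h₂⟩ := hy (c / x) (div_ne_zero hc hx0)
  refine ⟨max M₁ M₂, fun M hM => ?_⟩
  obtain ⟨x', hx', hxb⟩ := h₁ M (le_trans (le_max_left _ _) hM)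
  obtain ⟨y', hy', hyb⟩ := h₂ M (le_trans (le_max_right _ _) hM)
  refine ⟨x' * y', mul_mem hx' hy', ?_⟩
  have hvx : 0 < W.valuation x := zero_lt_iff.2 ((Valuation.ne_zero_iff _).2 hx0)
  have hvy : 0 < W.valuation y := zero_lt_iff.2 ((Valuation.ne_zero_iff _).2 hy0)
  have hx'le : W.valuation x' ≤ W.valuation x := by
    rw [show x' = x - (x - x') by ring]
    exact W.valuation.map_sub_le le_rfl (hxb.trans he2)
  rw [show x * y - x' * y' = (x - x') * y + x' * (y - y') by ring]
  refine W.valuation.map_add_le ?_ ?_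
  · have h := hxb.trans he1
    rw [map_div₀, le_div_iff₀ hvy] at h
    rwa [map_mul]
  · rw [map_div₀, le_div_iff₀ hvx] at hyb
    rw [map_mul, mul_comm]
    exact (mul_le_mul_of_nonneg_left hx'le zero_le).trans hyb

theorem Approximable.inv (hτ : ∃ τ : Ω, τ ≠ 0 ∧ W.valuation τ < 1) {x : Ω} (hx : Approximable W U x) :
    Approximable W U x⁻¹ := by
  rcases eq_or_ne x 0 with rfl | hx0
  · rw [inv_zero]; exact approximable_of_mem W U fun M => zero_mem _
  obtain ⟨τ, hτ0, hτ1⟩ := hτ
  intro c hc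
  obtain ⟨e, he, he1, he2⟩ := exists_small W (mul_ne_zero (mul_ne_zero hx0 hx0) hc) (mul_ne_zero hx0 hτ0)
  obtain ⟨M₁, h₁⟩ := hx e he
  refine ⟨M₁, fun M hM => ?_⟩
  obtain ⟨x', hx', hxb⟩ := h₁ M hM
  have hvx : 0 < W.valuation x := zero_lt_iff.2 ((Valuation.ne_zero_iff _).2 hx0)
  have hlt : W.valuation (x - x') < W.valuation x := by
    refine lt_of_le_of_lt (hxb.trans he2) ?_
    rw [map_mul]
    exact mul_lt_of_lt_one_right hvx hτ1
  have heq : W.valuation x' = W.valuation x := by
    rw [show x' = x - (x - x') by ring]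
    exact W.valuation.map_sub_eq_of_lt_left hlt
  have hx'0 : x' ≠ 0 := fun h => by rw [h, map_zero] at heq; exact hvx.ne heq
  refine ⟨x'⁻¹, inv_mem hx', ?_⟩
  rw [inv_sub_inv hx0 hx'0, map_div₀, Valuation.map_sub_swap, map_mul, heq, div_le_iff₀ (mul_pos hvx hvx)]
  refine (hxb.trans he1).trans (le_of_eq ?_)
  rw [map_mul, map_mul]; exact mul_comm _ _

/-- Approximable elements form a subfield. -/
def approxField (hτ : ∃ τ : Ω, τ ≠ 0 ∧ W.valuation τ < 1) : Subfield Ω where
  carrier := {x | Approximable W U x}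
  zero_mem' := approximable_of_mem W U fun _ => zero_mem _
  one_mem' := approximable_of_mem W U fun _ => one_mem _
  add_mem' hx hy := Approximable.add W U hx hy
  neg_mem' hx := Approximable.neg W U hx
  mul_mem' hx hy := Approximable.mul W U hx hy
  inv_mem' _ hx := Approximable.inv W U hτ hx

end Groth.Agent.EtRam7.EppGen
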