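import Mathlib

/-! Elements of a field that are `p ^ n`-th powers for every `n`. -/

set_option autoImplicit false
set_option linter.unusedSectionVars false
universe u

namespace Groth.Agent.EtRam7.EppGen

open Polynomial IntermediateField

variable (F : Type u) [Field F] (p : ℕ) [Fact p.Prime] [CharP F p]

/-- The elements that are `p ^ n`-th powers for every `n`. -/
noncomputable def pInfty : Subfield F := ⨅ n : ℕ, (iterateFrobenius F p n).fieldRange

variable {F p}

theorem mem_pInfty {x : F} : x ∈ pInfty F p ↔ ∀ n : ℕ, ∃ y : F, y ^ (p ^ n) = x := by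
  simp [pInfty, Subfield.mem_iInf, iterateFrobenius_def]

theorem pow_injective (n : ℕ) : Function.Injective (fun x : F => x ^ (p ^ n)) := by
  intro x y h
  exact (iterateFrobenius F p n).injective (by simpa [iterateFrobenius_def] using h)

/-- A root of an element of `pInfty` is in `pInfty`. -/
theorem mem_pInfty_of_pow {x y : F} (n : ℕ) (h : y ^ (p ^ n) = x) (hx : x ∈ pInfty F p) : y ∈ pInfty F p := by
  rw [mem_pInfty] at hx ⊢
  intro m
  obtain ⟨z, hz⟩ := hx (m + n)
  refine ⟨z, pow_injective (p := p) n ?_⟩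
  show (z ^ p ^ m) ^ p ^ n = y ^ p ^ n
  rw [h, ← pow_mul, ← pow_add, hz]

theorem exists_root_pInfty {x : F} (hx : x ∈ pInfty F p) (n : ℕ) : ∃ y ∈ pInfty F p, y ^ (p ^ n) = x := by
  obtain ⟨y, hy⟩ := mem_pInfty.1 hx n
  exact ⟨y, mem_pInfty_of_pow n hy hx, hy⟩

instance : PerfectRing (pInfty F p) p := by
  refine PerfectRing.ofSurjective _ p fun x => ?_
  obtain ⟨y, hy, hyx⟩ := exists_root_pInfty x.2 1
  refine ⟨⟨y, hy⟩, Subtype.ext ?_⟩
  simpa [frobenius_def] using hyx

/-- `pInfty` is closed under algebraic elements. -/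
theorem mem_pInfty_of_isIntegral {x : F} (hx : IsIntegral (pInfty F p) x) : x ∈ pInfty F p := by
  haveI : PerfectField (pInfty F p) := PerfectRing.toPerfectField _ p
  rw [mem_pInfty]
  intro n
  have hsep : IsSeparable (pInfty F p) x := PerfectField.separable_of_irreducible (minpoly.irreducible hx)
  have h1 : x ∈ (pInfty F p)⟮x ^ p ^ n⟯ :=
    adjoin_simple_eq_adjoin_pow_expChar_pow_of_isSeparable (pInfty F p) F hsep p n ▸
      mem_adjoin_simple_self (pInfty F p) x
  let R : IntermediateField (pInfty F p) F := Subfield.toIntermediateField (iterateFrobenius F p n).fieldRange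
    fun c => by
      obtain ⟨y, hy⟩ := mem_pInfty.1 c.2 n
      exact ⟨y, by rw [iterateFrobenius_def, hy]; rfl⟩
  have hle : (pInfty F p)⟮x ^ p ^ n⟯ ≤ R := adjoin_le_iff.2 (by
    rintro _ rfl
    exact ⟨x, iterateFrobenius_def (R := F) p n x⟩)
  obtain ⟨y, hy⟩ := hle h1
  exact ⟨y, by rw [← hy, iterateFrobenius_def]⟩

instance [IsSepClosed F] : IsAlgClosed (pInfty F p) := by
  haveI : PerfectField (pInfty F p) := PerfectRing.toPerfectField _ p
  refine IsAlgClosed.of_exists_root _ fun f hf hirr => ?_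
  have hsep : f.Separable := PerfectField.separable_of_irreducible hirr
  obtain ⟨x, hx⟩ := IsSepClosed.exists_root (f.map (pInfty F p).subtype)
    (by rw [degree_map]; exact hirr.degree_pos.ne') hsep.map
  have hint : IsIntegral (pInfty F p) x := ⟨f, hf, by rw [IsRoot.def, eval_map] at hx; exact hx⟩
  refine ⟨⟨x, mem_pInfty_of_isIntegral hint⟩, ?_⟩
  rw [IsRoot.def, eval_map] at hx
  apply (pInfty F p).subtype_injective
  rw [map_zero, ← eval₂_at_apply]
  exact hx

section Tower

variable {k l l' : Type u} [Field k] [Field l] [Field l'] [Algebra k l] [Algebra l l'] [Algebra k l'] [IsScalarTower k l l']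
  [CharP l p] [CharP l' p] [Algebra.IsSeparable l l']

/-- Infinite `p`-th powers in a separable extension are separable over the bottom. -/
theorem isSeparable_of_mem_pInfty (hres : ∀ x : l, (∀ n : ℕ, ∃ y : l, y ^ (p ^ n) = x) → IsSeparable k x)
    {x : l'} (hx : x ∈ pInfty l' p) : IsSeparable k x := by
  have hxs : IsSeparable l x := Algebra.IsSeparable.isSeparable l x
  have hcoef : ∀ i n, ∃ c : l, c ^ (p ^ n) = (minpoly l x).coeff i := by
    intro i n
    obtain ⟨y, hy⟩ := mem_pInfty.1 hx n
    have hys : IsSeparable l y := Algebra.IsSeparable.isSeparable l y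
    have hq : l⟮y⟯ = l⟮x⟯ := hy ▸ adjoin_simple_eq_adjoin_pow_expChar_pow_of_isSeparable l l' hys p n
    have hd : (minpoly l y).natDegree = (minpoly l x).natDegree := by
      rw [← adjoin.finrank hys.isIntegral, ← adjoin.finrank hxs.isIntegral, hq]
    have h0 : aeval x ((minpoly l y).map (iterateFrobenius l p n)) = 0 := by
      have h1 : (algebraMap l l').comp (iterateFrobenius l p n) = (iterateFrobenius l' p n).comp (algebraMap l l') :=
        RingHom.ext fun z => by simp [iterateFrobenius_def]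
      rw [aeval_def, eval₂_map, h1, show x = iterateFrobenius l' p n y by rw [iterateFrobenius_def, hy],
        ← hom_eval₂, ← aeval_def, minpoly.aeval, map_zero]
    have heq : minpoly l x = (minpoly l y).map (iterateFrobenius l p n) :=
      (eq_of_monic_of_dvd_of_natDegree_le (minpoly.monic hxs.isIntegral) ((minpoly.monic hys.isIntegral).map _)
        (minpoly.dvd l x h0) (by rw [natDegree_map, hd])).symm
    exact ⟨(minpoly l y).coeff i, by rw [heq, coeff_map, iterateFrobenius_def]⟩
  let S := separableClosure k l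
  have hlift : minpoly l x ∈ lifts (algebraMap S l) := (lifts_iff_coeff_lifts _).2 fun i =>
    ⟨⟨_, mem_separableClosure_iff.2 (hres _ (hcoef i))⟩, rfl⟩
  obtain ⟨Q, hQ⟩ := hlift
  have hQ' : Q.map (algebraMap S l) = minpoly l x := hQ
  have hQs : Q.Separable := (Polynomial.separable_map (algebraMap S l)).1 (hQ' ▸ hxs)
  have hQ0 : aeval x Q = 0 := by
    rw [← aeval_map_algebraMap l, hQ', minpoly.aeval]
  have : IsSeparable S x := Separable.of_dvd hQs (minpoly.dvd S x hQ0)
  exact IsSeparable.of_algebra_isSeparable_of_isSeparable k this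

/-- Roots of elements of `k(ε)` in `pInfty` stay in `k(ε)`. -/
theorem exists_poly_root (hres : ∀ x : l, (∀ n : ℕ, ∃ y : l, y ^ (p ^ n) = x) → IsSeparable k x) [CharP k p]
    {ε b : l'} (hb : b ∈ pInfty l' p) (hε : IsSeparable k ε) (P : k[X]) (hP : aeval ε P = b) (n : ℕ) :
    ∃ Q : k[X], (aeval ε Q) ^ (p ^ n) = b := by
  obtain ⟨y, hy, hyb⟩ := exists_root_pInfty hb n
  have h1 : y ∈ k⟮b⟯ := by
    have := adjoin_simple_eq_adjoin_pow_expChar_pow_of_isSeparable k l' (isSeparable_of_mem_pInfty hres hy) p n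
    rw [hyb] at this
    exact this ▸ mem_adjoin_simple_self k y
  have h2 : b ∈ Algebra.adjoin k {ε} := by rw [← hP]; exact aeval_mem_adjoin_singleton k ε
  have h3 : y ∈ Algebra.adjoin k {ε} := by
    rw [← adjoin_simple_toSubalgebra_of_isAlgebraic hε.isIntegral.isAlgebraic]
    refine (adjoin_le_iff.2 (Set.singleton_subset_iff.2 ?_) : k⟮b⟯ ≤ k⟮ε⟯) h1
    rw [SetLike.mem_coe, ← mem_toSubalgebra, adjoin_simple_toSubalgebra_of_isAlgebraic hε.isIntegral.isAlgebraic]
    exact h2
  obtain ⟨Q, rfl⟩ := Algebra.adjoin_mem_exists_aeval k ε h3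
  exact ⟨Q, hyb⟩

end Tower

/-- A primitive element for finitely many separable elements. -/
theorem exists_primitive {k K : Type u} [Field k] [Field K] [Algebra k K] (S : Finset K)
    (hS : ∀ x ∈ S, IsSeparable k x) :
    ∃ ε : K, IsSeparable k ε ∧ ∀ x ∈ S, ∃ P : k[X], aeval ε P = x := by
  let T := IntermediateField.adjoin k (S : Set K)
  haveI : FiniteDimensional k T := finiteDimensional_adjoin fun x hx => (hS x hx).isIntegral
  haveI : Algebra.IsSeparable k T := (isSeparable_adjoin_iff_isSeparable k K).2 hS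
  obtain ⟨ε, hε⟩ := Field.exists_primitive_element k T
  refine ⟨(ε : K), ?_, fun x hx => ?_⟩
  · show (minpoly k (ε : K)).Separable
    rw [show (ε : K) = T.val ε from rfl, minpoly.algHom_eq T.val Subtype.val_injective]
    exact Algebra.IsSeparable.isSeparable k ε
  · have hxT : (⟨x, subset_adjoin k _ hx⟩ : T) ∈ k⟮ε⟯ := hε ▸ mem_top
    rw [← mem_toSubalgebra, adjoin_simple_toSubalgebra_of_isAlgebraic (Algebra.IsAlgebraic.isAlgebraic ε)] at hxT
    obtain ⟨P, hP⟩ := Algebra.adjoin_mem_exists_aeval k ε hxT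
    exact ⟨P, by rw [show (ε : K) = T.val ε from rfl, aeval_algHom_apply, hP]; rfl⟩

end Groth.Agent.EtRam7.EppGen
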