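import Groth.Agent.CohenLib.Structure
import Groth.Agent.EtRam7.EppGen.Residue
import Mathlib

/-! A weakly unramified base for a complete discrete valuation ring. -/

set_option autoImplicit false
set_option linter.style.haveILetI false
set_option linter.unusedSectionVars false
universe u

namespace Groth.Agent.EtRam7.EppGen

open IsLocalRing

theorem eq_natCast_of_prime {k : Type u} [Field k] {p q : ℕ} [Fact p.Prime] [CharP k p] (hq : q.Prime) (h : (q : k) = 0) :
    q = p :=
  ((Nat.prime_dvd_prime_iff_eq Fact.out hq).1 ((CharP.cast_eq_zero_iff k p q).1 h)).symm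

/-- A Cohen ring with prescribed residue field. -/
theorem exists_cohen (p : ℕ) [Fact p.Prime] (k : Type u) [Field k] [CharP k p] :
    ∃ (Λ : Type u) (_ : CommRing Λ) (_ : IsDomain Λ) (_ : IsDiscreteValuationRing Λ)
      (_ : IsAdicComplete (maximalIdeal Λ) Λ) (g : Λ →+* k),
      Irreducible (p : Λ) ∧ Function.Surjective g ∧ RingHom.ker g = maximalIdeal Λ := by
  obtain ⟨Λ, _, _, hΛ, ⟨e⟩⟩ := CohenLib.exists_isCohenRing p k
  obtain ⟨_, _, hc, q, hq, hm⟩ := hΛ
  have h0 : residue Λ (q : Λ) = 0 := (residue_eq_zero_iff _).2 (hm ▸ Ideal.mem_span_singleton_self _)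
  rw [map_natCast] at h0
  have h1 : (q : k) = 0 := by rw [← map_natCast e, h0, map_zero]
  obtain rfl := eq_natCast_of_prime (p := p) hq h1
  refine ⟨Λ, inferInstance, inferInstance, inferInstance, hc, e.toRingHom.comp (residue Λ), ?_, e.surjective.comp residue_surjective, ?_⟩
  · rw [IsDiscreteValuationRing.irreducible_iff_uniformizer, hm]
  · ext x
    rw [RingHom.mem_ker, RingHom.comp_apply, RingEquiv.toRingHom_eq_coe, RingEquiv.coe_toRingHom, map_eq_zero_iff e e.injective,
      residue_eq_zero_iff]

/-- Two complete DVRs, the lower one with residue field `pInfty`, the upper one with residue field everything. -/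
theorem exists_base_maps (R : Type u) [CommRing R] [IsDomain R] [IsDiscreteValuationRing R] [IsAdicComplete (maximalIdeal R) R]
    (p : ℕ) [Fact p.Prime] [CharP (ResidueField R) p] (π : R) (hπ : π ∈ maximalIdeal R) (hπ0 : π ≠ 0) :
    ∃ (A₀ B₀ : Type u) (_ : CommRing A₀) (_ : IsDomain A₀) (_ : IsDiscreteValuationRing A₀)
      (_ : IsAdicComplete (maximalIdeal A₀) A₀)
      (_ : CommRing B₀) (_ : IsDomain B₀) (_ : IsDiscreteValuationRing B₀) (_ : IsAdicComplete (maximalIdeal B₀) B₀)
      (i : A₀ →+* B₀) (j : B₀ →+* R) (gA : A₀ →+* pInfty (ResidueField R) p) (t : A₀),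
      Irreducible t ∧ Irreducible (i t) ∧ Function.Surjective gA ∧ RingHom.ker gA = maximalIdeal A₀ ∧
      (∀ a, residue R (j (i a)) = (gA a : ResidueField R)) ∧ Function.Surjective ((residue R).comp j) ∧
      (j (i t) = π ∧ CharP R p ∨ j (i t) = (p : R) ∧ (p : R) ≠ 0) := by
  classical
  let k₀ := pInfty (ResidueField R) p
  haveI : CharP k₀ p := (RingHom.charP_iff k₀.subtype k₀.subtype_injective p).2 inferInstance
  have hpm : (p : R) ∈ maximalIdeal R := by rw [← residue_eq_zero_iff, map_natCast, CharP.cast_eq_zero]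
  by_cases hp0 : (p : R) = 0
  · haveI hcR : CharP R p := (CharP.charP_iff_prime_eq_zero (Fact.out : p.Prime)).2 hp0
    letI : Algebra (ZMod p) R := ZMod.algebra R p
    obtain ⟨σ, hσ⟩ := CoeffField.exists_ringHom_section (ZMod p) R
    letI : Algebra (ResidueField R) R := σ.toAlgebra
    obtain ⟨ψ, hψ⟩ := PSLib.exists_algHom (R := ResidueField R) (n := 1) (maximalIdeal R) (fun _ => π) (fun _ => hπ)
    let e : Unit ≃ Fin 1 := (finOneEquiv : Fin 1 ≃ Unit).symm
    let j : PowerSeries (ResidueField R) →+* R :=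
      ψ.toRingHom.comp (MvPowerSeries.renameEquiv (ResidueField R) e).toRingEquiv.toRingHom
    have hjC : ∀ x, j (PowerSeries.C x) = σ x := fun x => by
      show ψ ((MvPowerSeries.renameEquiv (ResidueField R) e) (algebraMap (ResidueField R) (MvPowerSeries Unit (ResidueField R)) x)) = _
      rw [AlgEquiv.commutes, AlgHom.commutes]
      rfl
    have hjX : j PowerSeries.X = π := by
      show ψ ((MvPowerSeries.renameEquiv (ResidueField R) e) (MvPowerSeries.X ())) = _
      rw [show (MvPowerSeries.renameEquiv (ResidueField R) e) (MvPowerSeries.X ()) = MvPowerSeries.X (e ()) from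
        MvPowerSeries.rename_X _ _, hψ]
    have hres : ∀ f, residue R (j f) = PowerSeries.constantCoeff f := fun f => by
      conv_lhs => rw [eq_add_of_sub_eq (PowerSeries.sub_const_eq_X_mul_shift f)]
      rw [map_add, map_mul, hjX, hjC, map_add, map_mul, (residue_eq_zero_iff π).2 hπ, zero_mul, zero_add, hσ]
    haveI : IsAdicComplete (maximalIdeal (PowerSeries k₀)) (PowerSeries k₀) := by
      rw [PowerSeries.maximalIdeal_eq_span_X]; infer_instance
    haveI : IsAdicComplete (maximalIdeal (PowerSeries (ResidueField R))) (PowerSeries (ResidueField R)) := by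
      rw [PowerSeries.maximalIdeal_eq_span_X]; infer_instance
    have hX : ∀ (F : Type u) [Field F], Irreducible (PowerSeries.X : PowerSeries F) := fun F _ =>
      (IsDiscreteValuationRing.irreducible_iff_uniformizer _).2 PowerSeries.maximalIdeal_eq_span_X
    refine ⟨PowerSeries k₀, PowerSeries (ResidueField R), inferInstance, inferInstance, inferInstance, inferInstance,
      inferInstance, inferInstance, inferInstance, inferInstance, PowerSeries.map k₀.subtype, j,
      PowerSeries.constantCoeff, PowerSeries.X, hX _, by rw [PowerSeries.map_X]; exact hX _,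
      fun c => ⟨PowerSeries.C c, PowerSeries.constantCoeff_C c⟩, ?_, fun a => ?_,
      fun y => ⟨PowerSeries.C y, by rw [RingHom.comp_apply, hres, PowerSeries.constantCoeff_C]⟩,
      Or.inl ⟨by rw [PowerSeries.map_X]; exact hjX, hcR⟩⟩
    · ext f
      rw [PowerSeries.maximalIdeal_eq_span_X, RingHom.mem_ker, Ideal.mem_span_singleton, PowerSeries.X_dvd_iff]
    · rw [hres, ← PowerSeries.coeff_zero_eq_constantCoeff_apply, PowerSeries.coeff_map,
        PowerSeries.coeff_zero_eq_constantCoeff_apply]
      rfl
  · obtain ⟨A₀, _, _, _, _, gA, hA, hgA, hkA⟩ := exists_cohen p k₀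
    obtain ⟨B₀, _, _, _, _, gB, hB, hgB, hkB⟩ := exists_cohen p (ResidueField R)
    obtain ⟨j, hj⟩ := CohenLib.exists_coeff_hom B₀ Fact.out hB.maximalIdeal_eq hpm gB
    let eB : ResidueField B₀ ≃+* ResidueField R :=
      (Ideal.quotEquivOfEq hkB.symm).trans (RingHom.quotientKerEquivOfSurjective hgB)
    have heB : ∀ b, eB (residue B₀ b) = gB b := fun b => by
      show RingHom.quotientKerEquivOfSurjective hgB (Ideal.quotEquivOfEq hkB.symm (Ideal.Quotient.mk _ b)) = gB b
      rw [Ideal.quotEquivOfEq_mk, RingHom.quotientKerEquivOfSurjective_apply_mk]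
    obtain ⟨i, hi⟩ := CohenLib.exists_coeff_hom A₀ Fact.out hA.maximalIdeal_eq
      (by rw [hB.maximalIdeal_eq]; exact Ideal.mem_span_singleton_self _) (eB.symm.toRingHom.comp (k₀.subtype.comp gA))
    refine ⟨A₀, B₀, inferInstance, inferInstance, inferInstance, inferInstance, inferInstance, inferInstance,
      inferInstance, inferInstance, i, j, gA, (p : A₀), hA, by rw [map_natCast]; exact hB, hgA, hkA, fun a => ?_,
      fun y => ?_, Or.inr ⟨by rw [map_natCast, map_natCast], hp0⟩⟩
    · have h1 : residue R (j (i a)) = gB (i a) := RingHom.congr_fun hj (i a)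
      have h2 : residue B₀ (i a) = eB.symm (k₀.subtype (gA a)) := RingHom.congr_fun hi a
      rw [h1, ← heB, h2, RingEquiv.apply_symm_apply]
      rfl
    · obtain ⟨b, hb⟩ := hgB y
      exact ⟨b, (RingHom.congr_fun hj b).trans hb⟩

end Groth.Agent.EtRam7.EppGen
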