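import Groth.Agent.EtRam7.EppGen.Teich
import Groth.Agent.Krasner7.Approx
import Mathlib

/-! Finite extensions of the fraction field of a complete DVR with perfect residue field. -/

set_option autoImplicit false
set_option linter.style.haveILetI false
set_option linter.unusedSectionVars false
universe u

namespace Groth.Agent.EtRam7.EppGen

open IsLocalRing Polynomial

/-- The fraction field of a finite extension is finite. -/
theorem finiteDimensional_frac {B R K L : Type u} [CommRing B] [CommRing R] [IsDomain R] [Field K] [Field L]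
    [Algebra B R] [Module.Finite B R] [Algebra B K] [Algebra R L] [IsFractionRing R L] [Algebra K L] [Algebra B L]
    [IsScalarTower B R L] [IsScalarTower B K L] : FiniteDimensional K L := by
  classical
  obtain ⟨s, hs⟩ := (Module.Finite.fg_top : (⊤ : Submodule B R).FG)
  let T : IntermediateField K L := IntermediateField.adjoin K (algebraMap R L '' (s : Set R))
  haveI : FiniteDimensional K T := IntermediateField.finiteDimensional_adjoin (by
    rintro _ ⟨x, -, rfl⟩
    exact ((Algebra.IsIntegral.isIntegral (R := B) x).map (IsScalarTower.toAlgHom B R L)).tower_top)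
  have hR : ∀ x : R, algebraMap R L x ∈ T := fun x => by
    have hx : x ∈ Submodule.span B (s : Set R) := hs ▸ Submodule.mem_top
    induction hx using Submodule.span_induction with
    | mem y hy => exact IntermediateField.subset_adjoin K _ ⟨y, hy, rfl⟩
    | zero => rw [map_zero]; exact zero_mem _
    | add y z _ _ hy hz => rw [map_add]; exact add_mem hy hz
    | smul c y _ hy =>
      rw [Algebra.smul_def, map_mul, ← IsScalarTower.algebraMap_apply B R L, IsScalarTower.algebraMap_apply B K L]
      exact mul_mem (T.algebraMap_mem _) hy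
  have htop : T = ⊤ := top_le_iff.1 fun x _ => by
    obtain ⟨a, b, -, rfl⟩ := IsFractionRing.div_surjective (A := R) x
    exact div_mem (hR a) (hR b)
  exact Module.Finite.equiv (((IntermediateField.equivOfEq htop).trans IntermediateField.topEquiv).toLinearEquiv)

variable {A K Ω : Type u} [CommRing A] [IsDomain A] [IsDiscreteValuationRing A] [Field K] [Algebra A K]
  [IsFractionRing A K] [Field Ω] [Algebra K Ω]

/-- A finite extension is generated by a separable element and a root of the uniformizer. -/
theorem exists_le_adjoin [IsAdicComplete (maximalIdeal A) A] (p : ℕ) [Fact p.Prime] [CharP (ResidueField A) p]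
    [PerfectRing (ResidueField A) p] [IsAlgClosed Ω] {t : A} (ht : Irreducible t) (hc : CharP K p ∨ CharZero K)
    (E : IntermediateField K Ω) [FiniteDimensional K E] :
    ∃ (P : A[X]) (N : ℕ) (d : ℕ) (r : Ω), r ^ p ^ d = algebraMap K Ω (algebraMap A K t) ∧ (d = 0 ∨ CharP K p) ∧
      0 < P.natDegree ∧ P.Monic ∧ ∀ g : A[X], g.Monic → g.natDegree = P.natDegree → (∀ i, t ^ N ∣ (g - P).coeff i) →
        ∃ β : Ω, minpoly K β = g.map (algebraMap A K) ∧ (g.map (algebraMap A K)).Separable ∧
          E ≤ IntermediateField.adjoin K {r, β} := by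
  classical
  have hp : p.Prime := Fact.out
  let S := separableClosure K E
  haveI : IsAdicComplete (Ideal.span {t}) A := ht.maximalIdeal_eq ▸ inferInstance
  obtain ⟨d, hd, hdc⟩ : ∃ d : ℕ, (∀ x : E, x ^ p ^ d ∈ S) ∧ (d = 0 ∨ CharP K p) := by
    rcases hc with hc | hc
    · refine ⟨Module.finrank S E, fun x => ?_, Or.inr hc⟩
      obtain ⟨j, y, hj⟩ := IsPurelyInseparable.minpoly_eq_X_pow_sub_C S p x
      have hjd : j ≤ Module.finrank S E := by
        have h1 := minpoly.natDegree_le (A := S) x
        rw [hj, natDegree_X_pow_sub_C] at h1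
        exact (Nat.lt_pow_self hp.one_lt).le.trans h1
      have h2 := minpoly.aeval S x
      rw [hj, map_sub, map_pow, aeval_X, aeval_C, sub_eq_zero] at h2
      obtain ⟨i, hi⟩ := Nat.exists_eq_add_of_le hjd
      rw [hi, pow_add, pow_mul, h2]
      exact pow_mem y.2 _
    · refine ⟨0, fun x => ?_, Or.inl rfl⟩
      rw [pow_zero, pow_one, mem_separableClosure_iff]
      exact (minpoly.irreducible (Algebra.IsIntegral.isIntegral x)).separable
  obtain ⟨P, N, hP, hPg⟩ := Krasner7.exists_poly ht K S
  have hn : 0 < P.natDegree := by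
    obtain ⟨β, hβ, -⟩ := hPg P hP rfl (fun i => by simp)
    rw [← hP.natDegree_map (algebraMap A K), ← hβ]
    exact minpoly.natDegree_pos (Algebra.IsIntegral.isIntegral β)
  obtain ⟨r, hr⟩ := IsAlgClosed.exists_pow_nat_eq (algebraMap K Ω (algebraMap A K t)) (pow_pos hp.pos d)
  refine ⟨P, N, d, r, hr, hdc, hn, hP, fun g hg hgd hgP => ?_⟩
  obtain ⟨β, hβ, hgen⟩ := hPg g hg hgd hgP
  let βΩ : Ω := ((β : E) : Ω)
  have hmin : minpoly K βΩ = g.map (algebraMap A K) := by
    rw [show βΩ = (E.val.comp S.val) β from rfl, minpoly.algHom_eq (E.val.comp S.val) (E.val.comp S.val).injective, hβ]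
  have hsepβ : IsSeparable K βΩ := by
    show (minpoly K βΩ).Separable
    rw [hmin, ← hβ]
    exact Algebra.IsSeparable.isSeparable K β
  refine ⟨βΩ, hmin, hmin ▸ hsepβ, fun x hx => ?_⟩
  set G := IntermediateField.adjoin K ({r, βΩ} : Set Ω)
  have hS : ∀ s : S, ((s : E) : Ω) ∈ IntermediateField.adjoin K {βΩ} := fun s => by
    have h1 : s ∈ IntermediateField.adjoin K {β} := hgen ▸ IntermediateField.mem_top
    have h2 : (E.val.comp S.val) s ∈ (IntermediateField.adjoin K {β}).map (E.val.comp S.val) := ⟨s, h1, rfl⟩
    rw [IntermediateField.adjoin_map, Set.image_singleton] at h2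
    exact h2
  have hxd : ((⟨x, hx⟩ : E) ^ p ^ d : E) ∈ S := hd _
  have h3 : x ^ p ^ d ∈ IntermediateField.adjoin K {βΩ} := hS ⟨_, hxd⟩
  rcases hdc with rfl | hcK
  · rw [pow_zero, pow_one] at h3
    exact IntermediateField.adjoin.mono K _ _ (by simp) h3
  haveI := hcK
  haveI : CharP A p := (RingHom.charP_iff (algebraMap A K) (IsFractionRing.injective A K) p).2 hcK
  haveI : CharP Ω p := charP_of_injective_algebraMap (algebraMap K Ω).injective p
  let φ := iterateFrobenius Ω p d
  let Gq : Subfield Ω := G.toSubfield.map φ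
  have hA : ∀ a : A, algebraMap K Ω (algebraMap A K a) ∈ Gq := fun a => by
    obtain ⟨c, rfl⟩ := exists_pow_expansion p ht d a
    rw [map_sum, map_sum]
    refine sum_mem fun i _ => ?_
    rw [map_mul, map_mul, map_pow, map_pow, map_pow, map_pow, ← hr]
    refine mul_mem ⟨_, G.algebraMap_mem _, iterateFrobenius_def (R := Ω) p d _⟩ (pow_mem (show r ^ p ^ d ∈ Gq from
      ⟨r, IntermediateField.subset_adjoin K _ (Set.mem_insert _ _), iterateFrobenius_def (R := Ω) p d r⟩) _)
  let GI : IntermediateField K Ω := Gq.toIntermediateField fun k => by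
    obtain ⟨a, b, -, rfl⟩ := IsFractionRing.div_surjective (A := A) k
    rw [map_div₀]
    exact div_mem (hA a) (hA b)
  have hle : IntermediateField.adjoin K {βΩ} ≤ GI := by
    rw [IntermediateField.adjoin_simple_eq_adjoin_pow_expChar_pow_of_isSeparable K Ω hsepβ p d,
      IntermediateField.adjoin_le_iff]
    rintro _ rfl
    exact ⟨βΩ, IntermediateField.subset_adjoin K _ (Set.mem_insert_of_mem _ rfl), iterateFrobenius_def (R := Ω) p d βΩ⟩
  obtain ⟨y, hy, hyx⟩ := hle h3
  have : y = x := φ.injective (hyx.trans (iterateFrobenius_def (R := Ω) p d x).symm)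
  exact this ▸ hy

end Groth.Agent.EtRam7.EppGen
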