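import Groth.Agent.EtRam7.EppGen.Setup
import Groth.Agent.EtRam7.EppGen.Insep
import Groth.Agent.EtRam7.EppGen.Closure
import Mathlib

/-! Eliminating ramification over a complete DVR with separably closed residue field. -/

set_option autoImplicit false
set_option linter.style.haveILetI false
set_option linter.unusedSectionVars false
universe u

namespace Groth.Agent.EtRam7.EppGen

open IsLocalRing Polynomial Epp

variable {A K R Lh Ω : Type u} [CommRing A] [IsDomain A] [IsDiscreteValuationRing A] [Field K] [Algebra A K]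
  [CommRing R] [IsDomain R] [IsDiscreteValuationRing R] [IsAdicComplete (maximalIdeal R) R]
  [IsSepClosed (ResidueField R)] [Field Lh] [Algebra R Lh] [IsFractionRing R Lh]
  [Field Ω] [Algebra Lh Ω] [Algebra K Ω] [IsAlgClosed Ω] [Algebra.IsAlgebraic Lh Ω]

theorem exists_pow_le {W : ValuationSubring Ω} (hW : EtRam.Dominates R ((algebraMap Lh Ω).comp (algebraMap R Lh)) W)
    {τ : R} (hτ : Irreducible τ) {c : Ω} (hc : c ≠ 0) :
    ∃ k : ℕ, W.valuation (algebraMap Lh Ω (algebraMap R Lh τ)) ^ k ≤ W.valuation c := by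
  classical
  set τΩ := algebraMap Lh Ω (algebraMap R Lh τ)
  have hτ1 : W.valuation τΩ < 1 := hW.2 τ hτ.not_isUnit
  by_cases hcW : c ∈ W
  swap
  · refine ⟨0, ?_⟩
    rw [pow_zero]
    exact (le_of_lt (not_le.1 fun h => hcW ((W.valuation_le_one_iff c).1 h)))
  let F := IntermediateField.adjoin Lh ({c} : Set Ω)
  haveI : FiniteDimensional Lh F := IntermediateField.adjoin.finiteDimensional (Algebra.IsIntegral.isIntegral c)
  haveI : IsDiscreteValuationRing (W.comap (algebraMap F Ω)) := dvr_F hW F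
  obtain ⟨σ, hσ⟩ := IsDiscreteValuationRing.exists_irreducible (W.comap (algebraMap F Ω))
  let cF : W.comap (algebraMap F Ω) := ⟨⟨c, IntermediateField.mem_adjoin_simple_self Lh c⟩, hcW⟩
  have hcF : cF ≠ 0 := fun h => hc (congrArg (fun z => ((Subtype.val z : F) : Ω)) h)
  obtain ⟨m, u, hu⟩ := IsDiscreteValuationRing.eq_unit_mul_pow_irreducible hcF hσ
  let τF : W.comap (algebraMap F Ω) := ⟨algebraMap Lh F (algebraMap R Lh τ), (W.valuation_le_one_iff _).1 hτ1.le⟩
  have hτF : τF ∈ maximalIdeal (W.comap (algebraMap F Ω)) :=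
    (ValuationSubring.valuation_lt_one_iff _ _).2 ((valuation_lt_one_comap W (algebraMap F Ω)).2 hτ1)
  rw [hσ.maximalIdeal_eq, Ideal.mem_span_singleton'] at hτF
  obtain ⟨e, he⟩ := hτF
  refine ⟨m, ?_⟩
  let uinv : W.comap (algebraMap F Ω) := ↑u⁻¹
  have h1 : τF ^ m = e ^ m * uinv * cF := by
    rw [hu, ← he, mul_pow]
    show e ^ m * σ ^ m = e ^ m * ↑u⁻¹ * (↑u * σ ^ m)
    rw [mul_assoc, Units.inv_mul_cancel_left]
  have h2 : τΩ ^ m = ((((e ^ m * uinv : W.comap (algebraMap F Ω)) : F)) : Ω) * c :=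
    congrArg (fun z => ((Subtype.val z : F) : Ω)) h1
  rw [← map_pow, h2, map_mul]
  exact mul_le_of_le_one_left' ((W.valuation_le_one_iff _).2 (e ^ m * uinv).2)

set_option maxHeartbeats 2000000 in
/-- A finite normal extension of `K` absorbing the ramification of `R`. -/
theorem exists_normal_bound [IsFractionRing A K] (p : ℕ) [Fact p.Prime] [CharP (ResidueField R) p] [CharP (ResidueField A) p]
    (ψ : A →+* R) [IsLocalHom ψ] (hψ : Function.Injective ψ)
    (hK : ∀ a : A, algebraMap K Ω (algebraMap A K a) = algebraMap Lh Ω (algebraMap R Lh (ψ a)))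
    (hres : letI := (ResidueField.map ψ).toAlgebra
      ∀ b ∈ pInfty (ResidueField R) p, IsSeparable (ResidueField A) b)
    {W : ValuationSubring Ω} (hW : EtRam.Dominates R ((algebraMap Lh Ω).comp (algebraMap R Lh)) W) :
    ∃ (E : IntermediateField K Ω) (F : IntermediateField Lh Ω), FiniteDimensional K E ∧ Normal K E ∧ Tight W E F := by
  classical
  letI algk : Algebra (ResidueField A) (ResidueField R) := (ResidueField.map ψ).toAlgebra
  -- the base
  obtain ⟨πA, hπA⟩ := IsDiscreteValuationRing.exists_irreducible A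
  have hπψ : ψ πA ≠ 0 := fun h => hπA.ne_zero (hψ (h.trans (map_zero ψ).symm))
  obtain ⟨A₀, B₀, _, _, _, _, _, _, _, _, i, j, gA, t, ht, hit, hgA, hkA, hres₀, hresj, hcase⟩ :=
    exists_base_maps R p (ψ πA) (map_nonunit ψ πA hπA.not_isUnit) hπψ
  obtain ⟨π₀, hπ₀m, hπ₀, hjt, hchar⟩ : ∃ π₀ : A, π₀ ∈ maximalIdeal A ∧ π₀ ≠ 0 ∧ j (i t) = ψ π₀ ∧
      (CharP R p ∨ CharZero R) := by
    rcases hcase with ⟨h, hc⟩ | ⟨h, hp0⟩
    · exact ⟨πA, hπA.not_isUnit, hπA.ne_zero, h, Or.inl hc⟩
    · refine ⟨(p : A), by rw [← residue_eq_zero_iff, map_natCast, CharP.cast_eq_zero], fun h0 => hp0 ?_, by rw [h, map_natCast], Or.inr ?_⟩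
      · rw [← map_natCast ψ, h0, map_zero]
      · rcases CharP.exists' R with hz | ⟨q, hq, hcq⟩
        · exact hz
        · haveI := hq; haveI := hcq
          have h1 : (q : ResidueField R) = 0 := by rw [← map_natCast (residue R), CharP.cast_eq_zero, map_zero]
          obtain rfl := eq_natCast_of_prime (p := p) hq.out h1
          exact absurd (CharP.cast_eq_zero R q) hp0
  have hψπ : ψ π₀ ≠ 0 := fun h => hπ₀ (hψ (h.trans (map_zero ψ).symm))
  have hψπm : ψ π₀ ∈ maximalIdeal R := map_nonunit ψ π₀ hπ₀m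
  let eA : ResidueField A₀ ≃+* pInfty (ResidueField R) p :=
    (Ideal.quotEquivOfEq hkA.symm).trans (RingHom.quotientKerEquivOfSurjective hgA)
  have heA : ∀ a, eA (residue A₀ a) = gA a := fun a => by
    show RingHom.quotientKerEquivOfSurjective hgA (Ideal.quotEquivOfEq hkA.symm (Ideal.Quotient.mk _ a)) = _
    rw [Ideal.quotEquivOfEq_mk, RingHom.quotientKerEquivOfSurjective_apply_mk]
  haveI : CharP (pInfty (ResidueField R) p) p :=
    (RingHom.charP_iff (pInfty (ResidueField R) p).subtype (pInfty (ResidueField R) p).subtype_injective p).2 inferInstance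
  haveI : CharP (ResidueField A₀) p := (RingHom.charP_iff eA.toRingHom eA.injective p).2 inferInstance
  haveI : IsAlgClosed (ResidueField A₀) := IsAlgClosed.of_ringEquiv _ _ eA.symm
  haveI : PerfectRing (ResidueField A₀) p := PerfectField.toPerfectRing p
  haveI : IsLocalHom i := ⟨fun a ha => by
    by_contra hn
    have h1 : gA a = 0 := by rw [← RingHom.mem_ker, hkA]; exact hn
    have h2 : residue R (j (i a)) = 0 := by rw [hres₀, h1]; rfl
    exact ((ha.map j).map (residue R)).ne_zero h2⟩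
  haveI : IsLocalHom j := ⟨fun b hb => by
    by_contra hn
    have h1 : b ∈ maximalIdeal B₀ := hn
    rw [hit.maximalIdeal_eq, Ideal.mem_span_singleton'] at h1
    obtain ⟨c, rfl⟩ := h1
    rw [map_mul, hjt] at hb
    exact hψπm (isUnit_of_mul_isUnit_right hb)⟩
  have hjinj : Function.Injective j := by
    rw [injective_iff_map_eq_zero]
    intro b hb
    by_contra h0
    obtain ⟨m, u, rfl⟩ := IsDiscreteValuationRing.eq_unit_mul_pow_irreducible h0 hit
    rw [map_mul, map_pow, hjt, mul_eq_zero] at hb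
    exact hb.elim (fun h => (u.isUnit.map j).ne_zero h) (fun h => hψπ (eq_zero_of_pow_eq_zero h))
  have hiinj : Function.Injective i := by
    rw [injective_iff_map_eq_zero]
    intro a ha
    by_contra h0
    obtain ⟨m, u, rfl⟩ := IsDiscreteValuationRing.eq_unit_mul_pow_irreducible h0 ht
    rw [map_mul, map_pow, mul_eq_zero] at ha
    exact ha.elim (fun h => (u.isUnit.map i).ne_zero h) (fun h => hit.ne_zero (eq_zero_of_pow_eq_zero h))
  -- algebras
  letI : Algebra A₀ B₀ := i.toAlgebra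
  haveI : IsLocalHom (algebraMap A₀ B₀) := ‹IsLocalHom i›
  letI : Algebra B₀ R := j.toAlgebra
  let K₀ := FractionRing A₀
  let L₀ := FractionRing B₀
  letI : Algebra B₀ Lh := ((algebraMap R Lh).comp j).toAlgebra
  haveI : IsScalarTower B₀ R Lh := IsScalarTower.of_algebraMap_eq fun _ => rfl
  letI : Algebra L₀ Lh := (IsFractionRing.lift (show Function.Injective (algebraMap B₀ Lh) from
    (IsFractionRing.injective R Lh).comp hjinj)).toAlgebra
  haveI : IsScalarTower B₀ L₀ Lh := IsScalarTower.of_algebraMap_eq fun b =>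
    (IsFractionRing.lift_algebraMap _ b).symm
  letI : Algebra L₀ Ω := ((algebraMap Lh Ω).comp (algebraMap L₀ Lh)).toAlgebra
  haveI : IsScalarTower L₀ Lh Ω := IsScalarTower.of_algebraMap_eq fun _ => rfl
  haveI : IsScalarTower A₀ B₀ L₀ := inferInstance
  letI : Algebra K₀ L₀ := (IsFractionRing.lift (show Function.Injective (algebraMap A₀ L₀) from
    by rw [IsScalarTower.algebraMap_eq A₀ B₀ L₀]; exact (IsFractionRing.injective B₀ L₀).comp hiinj)).toAlgebra
  haveI : IsScalarTower A₀ K₀ L₀ := IsScalarTower.of_algebraMap_eq fun a =>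
    (IsFractionRing.lift_algebraMap _ a).symm
  letI : Algebra K₀ Ω := ((algebraMap L₀ Ω).comp (algebraMap K₀ L₀)).toAlgebra
  haveI : IsScalarTower K₀ L₀ Ω := IsScalarTower.of_algebraMap_eq fun _ => rfl
  let ρ : R →+* Ω := (algebraMap Lh Ω).comp (algebraMap R Lh)
  have hρinj : Function.Injective ρ := (algebraMap Lh Ω).injective.comp (IsFractionRing.injective R Lh)
  let κ : A₀ →+* Ω := ρ.comp (j.comp i)
  have hκ : ∀ a, algebraMap K₀ Ω (algebraMap A₀ K₀ a) = κ a := fun a => by
    show algebraMap Lh Ω (algebraMap L₀ Lh (algebraMap K₀ L₀ (algebraMap A₀ K₀ a))) = _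
    rw [← IsScalarTower.algebraMap_apply A₀ K₀ L₀, IsScalarTower.algebraMap_apply A₀ B₀ L₀,
      ← IsScalarTower.algebraMap_apply B₀ L₀ Lh]
    rfl
  have hκinj : Function.Injective κ := hρinj.comp (hjinj.comp hiinj)
  have hcK : CharP K₀ p ∨ CharZero K₀ := by
    rcases hchar with hc | hc
    · left
      haveI : CharP A₀ p := (RingHom.charP_iff (j.comp i) (hjinj.comp hiinj) p).2 hc
      exact IsFractionRing.charP A₀ p
    · right
      haveI : CharZero A₀ := (j.comp i).charZero
      exact charZero_of_injective_algebraMap (IsFractionRing.injective A₀ K₀)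
  obtain ⟨τ, hτ⟩ := IsDiscreteValuationRing.exists_irreducible R
  obtain ⟨e, ue, hue⟩ := IsDiscreteValuationRing.eq_unit_mul_pow_irreducible hψπ hτ
  haveI : Module.Finite B₀ R := by
    have hfin : j.Finite := by
      refine CohenLib.finite_of_complete j (maximalIdeal B₀) (Ideal.map_le_iff_le_comap.2 fun b hb => map_nonunit j b hb)
        (CohenLib.finite_quotient_of_pow_le j hresj (N := e) ?_)
      rw [hit.maximalIdeal_eq, Ideal.map_span, Set.image_singleton, hjt, hue, Ideal.span_singleton_mul_left_unit ue.isUnit,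
        hτ.maximalIdeal_eq, Ideal.span_singleton_pow]
    exact hfin
  haveI : FiniteDimensional L₀ Lh := finiteDimensional_frac (B := B₀) (R := R)
  haveI : Algebra.IsAlgebraic L₀ Ω := Algebra.IsAlgebraic.trans L₀ Lh Ω
  have hW₀ : EtRam.Dominates B₀ ((algebraMap L₀ Ω).comp (algebraMap B₀ L₀)) W := by
    have he : ∀ b, ((algebraMap L₀ Ω).comp (algebraMap B₀ L₀)) b = ρ (j b) := fun b => by
      show algebraMap Lh Ω (algebraMap L₀ Lh (algebraMap B₀ L₀ b)) = _
      rw [← IsScalarTower.algebraMap_apply B₀ L₀ Lh]; rfl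
    exact ⟨fun b => (he b).symm ▸ hW.1 _, fun b hb => (he b).symm ▸ hW.2 _ (map_nonunit j b hb)⟩
  have hw : EtRam.IsWeaklyUnramified A₀ B₀ := by
    show (maximalIdeal A₀).map i = maximalIdeal B₀
    rw [ht.maximalIdeal_eq, Ideal.map_span, Set.image_singleton, hit.maximalIdeal_eq]
  have hk : ∀ x : ResidueField B₀, (∀ n : ℕ, ∃ y : ResidueField B₀, y ^ (p ^ n) = x) ↔
      x ∈ Set.range (algebraMap (ResidueField A₀) (ResidueField B₀)) := by
    let eB : ResidueField B₀ →+* ResidueField R := ResidueField.map j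
    have heBs : Function.Surjective eB := fun y => by
      obtain ⟨b, hb⟩ := hresj y
      exact ⟨residue B₀ b, hb⟩
    intro x
    have h1 : (∀ n : ℕ, ∃ y : ResidueField B₀, y ^ (p ^ n) = x) ↔ eB x ∈ pInfty (ResidueField R) p := by
      rw [mem_pInfty]
      refine forall_congr' fun n => ⟨fun ⟨y, hy⟩ => ⟨eB y, by rw [← map_pow, hy]⟩, fun ⟨y, hy⟩ => ?_⟩
      obtain ⟨y, rfl⟩ := heBs y
      exact ⟨y, eB.injective (by rw [map_pow, hy])⟩
    rw [h1]
    refine ⟨fun h => ?_, ?_⟩
    · obtain ⟨a, ha⟩ := hgA ⟨eB x, h⟩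
      refine ⟨residue A₀ a, eB.injective ?_⟩
      show residue R (j (i a)) = eB x
      rw [hres₀, ha]
    · rintro ⟨z, rfl⟩
      obtain ⟨a, rfl⟩ := residue_surjective z
      show residue R (j (i a)) ∈ _
      rw [hres₀]
      exact (gA a).2
  -- the tight pair over the complete base
  let N₀ : IntermediateField L₀ Ω := (IsScalarTower.toAlgHom L₀ Lh Ω).fieldRange
  haveI : FiniteDimensional L₀ N₀ :=
    Module.Finite.equiv (AlgEquiv.ofInjectiveField (IsScalarTower.toAlgHom L₀ Lh Ω)).toLinearEquiv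
  obtain ⟨E₁, F₁, hE₁, hF₁, hN₁, hT₁⟩ := Epp.exists_tight (A := A₀) (K := K₀) hW₀ p hw hk N₀
  obtain ⟨P, N₁, d, r, hr, hdc, hn, hP, hPg⟩ := exists_le_adjoin p ht hcK E₁
  set n := P.natDegree
  choose bE wE hwE hsumE using fun l : ℕ => exists_expansion p ht.maximalIdeal_eq N₁ (P.coeff l)
  let aE : ℕ → A₀ := fun l => ∑ m ∈ Finset.range N₁, wE l m * t ^ m
  let g₀ : A₀[X] := polyOf n aE
  obtain ⟨β₀, hβ₀, hg₀sep, hE₁le⟩ := hPg g₀ (monic_polyOf n aE) (natDegree_polyOf n aE) (fun l => by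
    rw [coeff_sub, coeff_polyOf]
    by_cases hl : l < n
    · rw [if_pos hl, ← Ideal.mem_span_singleton]
      have := neg_mem (hsumE l)
      rwa [neg_sub] at this
    · by_cases hl' : l = n
      · rw [if_neg hl, if_pos hl', hl', hP.coeff_natDegree, sub_self]; exact dvd_zero _
      · rw [if_neg hl, if_neg hl', P.coeff_eq_zero_of_natDegree_lt (by omega), sub_self]; exact dvd_zero _)
  -- residues of the coefficients
  let bb : ℕ → ℕ → ResidueField R := fun l m => (gA (wE l m) : ResidueField R)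
  have hbb : ∀ l m, bb l m ∈ pInfty (ResidueField R) p := fun l m => (gA (wE l m)).2
  obtain ⟨ε, hε, hεP⟩ := exists_primitive (k := ResidueField A)
    ((Finset.range n ×ˢ Finset.range N₁).image fun q => bb q.1 q.2) (fun x hx => by
      obtain ⟨q, -, rfl⟩ := Finset.mem_image.1 hx
      exact hres _ (hbb _ _))
  obtain ⟨h, y₀, hh, hhirr, hy₀, hy₀ε, hall, hYfin⟩ := exists_lifts ψ hε
  let Y : Set R := {y : R | h.eval₂ ψ y = 0}
  have htrans : ∀ y ∈ Y, ∀ Q : (ResidueField A)[X], aeval ε Q = 0 → aeval (residue R y) Q = 0 := by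
    intro y hy Q hQ
    have hroot : ∀ z ∈ Y, aeval (residue R z) (h.map (residue A)) = 0 := fun z hz => by
      rw [aeval_def, eval₂_map]
      show eval₂ ((residue R).comp ψ) (residue R z) h = 0
      rw [← hom_eval₂, hz, map_zero]
    have hmin : h.map (residue A) = minpoly (ResidueField A) ε :=
      minpoly.eq_of_irreducible_of_monic hhirr (hy₀ε ▸ hroot y₀ hy₀) (hh.map _)
    obtain ⟨c, rfl⟩ := minpoly.dvd _ _ hQ
    rw [map_mul, ← hmin, hroot y hy, zero_mul]
  choose Pb hPb using fun (l m : ℕ) => show ∃ Q : (ResidueField A)[X], l < n → m < N₁ → aeval ε Q = bb l m from by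
    by_cases hlm : l < n ∧ m < N₁
    · obtain ⟨Q, hQ⟩ := hεP (bb l m) (Finset.mem_image.2 ⟨(l, m), by simp [hlm.1, hlm.2], rfl⟩)
      exact ⟨Q, fun _ _ => hQ⟩
    · exact ⟨0, fun h1 h2 => absurd ⟨h1, h2⟩ hlm⟩
  have hl' : ∀ x : ResidueField R, (∀ k : ℕ, ∃ y : ResidueField R, y ^ (p ^ k) = x) → IsSeparable (ResidueField A) x :=
    fun x hx => hres x (mem_pInfty.2 hx)
  choose Qb hQb using fun (l m M : ℕ) => show ∃ Q : (ResidueField A)[X], l < n → m < N₁ →
      (aeval ε Q) ^ p ^ M = bb l m from by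
    by_cases hlm : l < n ∧ m < N₁
    · obtain ⟨Q, hQ⟩ := exists_poly_root (l := ResidueField R) hl' (hbb l m) hε (Pb l m) (hPb l m hlm.1 hlm.2) M
      exact ⟨Q, fun _ _ => hQ⟩
    · exact ⟨0, fun h1 h2 => absurd ⟨h1, h2⟩ hlm⟩
  choose Qt hQt using fun (l m M : ℕ) => Polynomial.map_surjective (residue A) residue_surjective (Qb l m M)
  -- conjugate multiplicative representatives
  choose wy hwy using fun (y : R) (l m : ℕ) => show ∃ w : A₀, IsTeich p w ∧ (y ∈ Y → l < n → m < N₁ →
      (gA w : ResidueField R) = aeval (residue R y) (Pb l m)) from by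
    by_cases hlm : y ∈ Y ∧ l < n ∧ m < N₁
    · obtain ⟨hy, hl, hm⟩ := hlm
      have hmem : aeval (residue R y) (Pb l m) ∈ pInfty (ResidueField R) p := by
        rw [mem_pInfty]
        intro M
        refine ⟨aeval (residue R y) (Qb l m M), ?_⟩
        rw [← map_pow, ← sub_eq_zero, ← map_sub]
        exact htrans y hy _ (by rw [map_sub, map_pow, hQb l m M hl hm, hPb l m hl hm, sub_self])
      obtain ⟨w, hw1, hw2⟩ := exists_teich p (eA.symm ⟨_, hmem⟩)
      exact ⟨w, hw2, fun _ _ _ => by rw [← heA, hw1, RingEquiv.apply_symm_apply]⟩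
    · obtain ⟨w, -, hw2⟩ := exists_teich p (0 : ResidueField A₀)
      exact ⟨w, hw2, fun h1 h2 h3 => absurd ⟨h1, h2, h3⟩ hlm⟩
  let ay : R → ℕ → A₀ := fun y l => ∑ m ∈ Finset.range N₁, wy y l m * t ^ m
  have hay₀ : ∀ l, l < n → ay y₀ l = aE l := fun l hl => Finset.sum_congr rfl fun m hm => by
    have hm' := Finset.mem_range.1 hm
    congr 1
    refine (hwy y₀ l m).1.eq (hwE l m).2 (eA.injective (Subtype.ext ?_))
    rw [heA, heA, (hwy y₀ l m).2 hy₀ hl hm', hy₀ε, hPb l m hl hm']
  let f₀ : R → R[X] := fun y => polyOf n (fun l => j (i (ay y l)))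
  let Cp : ℕ → A[X][X] := fun M =>
    polyOf n (fun l => ∑ m ∈ Finset.range N₁, Qt l m M ^ p ^ M * C (π₀ ^ m))
  let fM : ℕ → R → R[X] := fun M y => (Cp M).map (eval₂RingHom ψ y)
  have hclose : ∀ M, ∀ y ∈ Y, ∀ l, (fM M y).coeff l - (f₀ y).coeff l ∈ maximalIdeal R ^ (M + 1) := by
    intro M y hy l
    simp only [fM, f₀, Cp, map_polyOf, coeff_polyOf, Function.comp_apply]
    by_cases hl : l < n
    swap
    · rw [if_neg hl, if_neg hl, sub_self]; exact zero_mem _
    rw [if_pos hl, if_pos hl]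
    simp only [ay, map_sum, map_mul, map_pow, coe_eval₂RingHom, eval₂_C, ← Finset.sum_sub_distrib, hjt]
    refine sum_mem fun m hm => ?_
    rw [← sub_mul]
    refine Ideal.mul_mem_right _ _ ?_
    obtain ⟨v, hv⟩ := (hwy y l m).1 M
    rw [← hv, map_pow, map_pow]
    refine pow_sub_pow_mem (by rw [← residue_eq_zero_iff, map_natCast, CharP.cast_eq_zero]) ?_ M
    rw [← residue_eq_zero_iff, map_sub, sub_eq_zero, hom_eval₂, hres₀]
    have hQ : eval₂ ((residue R).comp ψ) (residue R y) (Qt l m M) = aeval (residue R y) (Qb l m M) := by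
      rw [← hQt, aeval_def, eval₂_map]; rfl
    rw [hQ]
    apply pow_injective (p := p) M
    show aeval (residue R y) (Qb l m M) ^ p ^ M = (gA v : ResidueField R) ^ p ^ M
    rw [← SubmonoidClass.coe_pow, ← map_pow gA, hv, (hwy y l m).2 hy hl (Finset.mem_range.1 hm), ← map_pow, ← sub_eq_zero, ← map_sub]
    exact htrans y hy _ (by rw [map_sub, map_pow, hQb l m M hl (Finset.mem_range.1 hm), hPb l m hl (Finset.mem_range.1 hm), sub_self])
  -- valuations
  let ρW : R →+* W := ρ.codRestrict W.toSubring hW.1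
  set vτ := W.valuation (ρ τ)
  have hτ1 : vτ < 1 := hW.2 τ hτ.not_isUnit
  have hτ0 : 0 < vτ := zero_lt_iff.2 ((Valuation.ne_zero_iff _).2 fun h0 => hτ.ne_zero (hρinj (h0.trans (map_zero ρ).symm)))
  have hρle : ∀ x : R, W.valuation (ρ x) ≤ 1 := fun x => (W.valuation_le_one_iff _).2 (hW.1 x)
  have hvm : ∀ (k : ℕ) (x : R), x ∈ maximalIdeal R ^ k → W.valuation (ρ x) ≤ vτ ^ k := by
    intro k x hx
    rw [hτ.maximalIdeal_eq, Ideal.span_singleton_pow, Ideal.mem_span_singleton'] at hx
    obtain ⟨c, rfl⟩ := hx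
    rw [map_mul, map_pow, map_mul, map_pow]
    exact mul_le_of_le_one_left' (hρle c)
  have hunit : ∀ c : R, IsUnit c → W.valuation (ρ c) = 1 := fun c hc => by
    obtain ⟨c', hc'⟩ := hc.exists_left_inv
    refine le_antisymm (hρle c) ?_
    calc (1 : W.ValueGroup) = W.valuation (ρ c') * W.valuation (ρ c) := by rw [← map_mul, ← map_mul, hc', map_one, map_one]
      _ ≤ W.valuation (ρ c) := mul_le_of_le_one_left' (hρle c')
  have hfd : ∀ M y, (fM M y).natDegree = n ∧ (fM M y).Monic := fun M y => by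
    simp only [fM, Cp, map_polyOf]
    exact ⟨natDegree_polyOf _ _, monic_polyOf _ _⟩
  -- the discriminant
  let disc : ℕ → R → R := fun M y => (fM M y).resultant (derivative (fM M y)) n (n - 1)
  obtain ⟨k₁, hk₁⟩ : ∃ k₁ : ℕ, ∀ M, k₁ ≤ M → ∀ y ∈ Y, W.valuation (ρ (disc M y)) = vτ ^ k₁ := by
    have hf₀ : f₀ y₀ = g₀.map (j.comp i) := by
      refine Polynomial.ext fun l => ?_
      simp only [f₀, g₀, map_polyOf, coeff_polyOf, Function.comp_apply, RingHom.comp_apply]
      split_ifs with hl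
      · rw [hay₀ l hl]
      · rfl
      · rfl
    set r₀ := (f₀ y₀).resultant (derivative (f₀ y₀)) n (n - 1)
    have hr₀ : r₀ ≠ 0 := by
      intro h0
      set gK := g₀.map (algebraMap A₀ K₀) with hgK
      have hgKm : gK.Monic := (monic_polyOf n aE).map _
      have hgKd : gK.natDegree = n := by rw [hgK, (monic_polyOf n aE).natDegree_map, natDegree_polyOf]
      obtain ⟨k, hk⟩ := Nat.exists_eq_add_of_le (show (derivative gK).natDegree ≤ n - 1 from hgKd ▸ natDegree_derivative_le gK)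
      have h1 : gK.resultant (derivative gK) n (n - 1) ≠ 0 := by
        rw [hk, resultant_add_right_deg gK (derivative gK) n (derivative gK).natDegree k le_rfl, show gK.coeff n = 1 from hgKd ▸ hgKm.coeff_natDegree, one_pow, one_mul,
          ← hgKd, Ne, resultant_eq_zero_iff]
        exact fun hh => hh.2 hg₀sep
      refine h1 ?_
      have h2 : g₀.resultant (derivative g₀) n (n - 1) = 0 := by
        apply hjinj.comp hiinj
        show (j.comp i) _ = (j.comp i) 0
        rw [map_zero, ← resultant_map_map, ← derivative_map, ← hf₀]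
        exact h0
      rw [hgK, derivative_map, resultant_map_map, h2, map_zero]
    obtain ⟨k₁, u, hu⟩ := IsDiscreteValuationRing.eq_unit_mul_pow_irreducible hr₀ hτ
    refine ⟨k₁, fun M hM y hy => ?_⟩
    have h1 : disc M y₀ - r₀ ∈ maximalIdeal R ^ (M + 1) := by
      have he : (fM M y₀).map (Ideal.Quotient.mk (maximalIdeal R ^ (M + 1))) =
          (f₀ y₀).map (Ideal.Quotient.mk (maximalIdeal R ^ (M + 1))) := Polynomial.ext fun l => by
        rw [coeff_map (Ideal.Quotient.mk _), coeff_map (Ideal.Quotient.mk _), Ideal.Quotient.eq]; exact hclose M y₀ hy₀ l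
      rw [← Ideal.Quotient.eq, ← resultant_map_map, ← resultant_map_map, ← derivative_map, ← derivative_map, he]
    have hvr : W.valuation (ρ r₀) = vτ ^ k₁ := by
      rw [hu, map_mul, map_pow, map_mul, map_pow, hunit _ u.isUnit, one_mul]
    have hv₀ : W.valuation (ρ (disc M y₀)) = vτ ^ k₁ := by
      rw [← hvr, show disc M y₀ = r₀ + (disc M y₀ - r₀) by ring, map_add]
      refine W.valuation.map_add_eq_of_lt_left (lt_of_le_of_lt (hvm _ _ h1) ?_)
      rw [hvr]
      exact pow_lt_pow_right_of_lt_one₀ hτ0 hτ1 (by omega)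
    set D := (Cp M).resultant (derivative (Cp M)) n (n - 1) with hD
    have hdisc : ∀ y, disc M y = D.eval₂ ψ y := fun y => by
      show _ = eval₂RingHom ψ y D
      rw [hD, ← resultant_map_map, ← derivative_map]
    rcases eval_eq_zero_or_exists ψ hπA h hh hhirr D with hz | ⟨m, hm⟩
    · rw [hdisc, hz y₀ hy₀, map_zero, map_zero] at hv₀
      exact absurd hv₀.symm (pow_ne_zero _ hτ0.ne')
    · have key : ∀ y ∈ Y, W.valuation (ρ (disc M y)) = W.valuation (ρ (ψ πA)) ^ m := fun y hy => by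
        obtain ⟨c, hc, hcy⟩ := hm y hy
        rw [hdisc, hcy, map_mul, map_pow, map_mul, map_pow, hunit c hc, one_mul]
      rw [key y hy, ← key y₀ hy₀, hv₀]
  -- the generated field over the complete base
  let S₂ : Set Ω := insert r {z | ∃ y ∈ Y, ((f₀ y).map ρ).IsRoot z}
  have hS₂fin : S₂.Finite := by
    refine Set.Finite.insert r ((hYfin.biUnion fun y _ => ((f₀ y).map ρ).roots.toFinset.finite_toSet).subset ?_)
    rintro z ⟨y, hy, hz⟩
    exact Set.mem_biUnion hy (Multiset.mem_toFinset.2 ((mem_roots ((monic_polyOf _ _).map ρ).ne_zero).2 hz))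
  have hS₂int : ∀ z ∈ S₂, IsIntegral K₀ z := by
    rintro z (rfl | ⟨y, hy, hz⟩)
    · exact IsIntegral.of_pow (pow_pos (Fact.out : p.Prime).pos d) (hr ▸ isIntegral_algebraMap)
    · refine ⟨(polyOf n (ay y)).map (algebraMap A₀ K₀), (monic_polyOf _ _).map _, ?_⟩
      rw [eval₂_map]
      have : (f₀ y).map ρ = (polyOf n (ay y)).map ((algebraMap K₀ Ω).comp (algebraMap A₀ K₀)) := by
        rw [show (algebraMap K₀ Ω).comp (algebraMap A₀ K₀) = ρ.comp (j.comp i) from RingHom.ext hκ]
        simp only [f₀, map_polyOf]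
        rfl
      rw [← eval_map, ← this]
      exact hz
  let G : IntermediateField K₀ Ω := IntermediateField.adjoin K₀ S₂
  haveI : FiniteDimensional K₀ G := by
    haveI := hS₂fin.to_subtype
    exact IntermediateField.finiteDimensional_adjoin hS₂int
  have hrG : r ∈ G := IntermediateField.subset_adjoin K₀ _ (Set.mem_insert _ _)
  have hβG : β₀ ∈ G := by
    refine IntermediateField.subset_adjoin K₀ _ (Set.mem_insert_of_mem _ ⟨y₀, hy₀, ?_⟩)
    have h0 := minpoly.aeval K₀ β₀
    rw [hβ₀, aeval_def, eval₂_map] at h0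
    rw [IsRoot.def]
    have : (f₀ y₀).map ρ = g₀.map ((algebraMap K₀ Ω).comp (algebraMap A₀ K₀)) := by
      rw [show (algebraMap K₀ Ω).comp (algebraMap A₀ K₀) = ρ.comp (j.comp i) from RingHom.ext hκ,
        ← Polynomial.map_map (j.comp i) ρ]
      simp only [f₀, g₀, map_polyOf]
      refine Polynomial.ext fun l => ?_
      simp only [coeff_polyOf, Function.comp_apply, RingHom.comp_apply]
      split_ifs with hl
      · rw [hay₀ l hl]
      · rfl
      · rfl
    rw [this, eval_map]; exact h0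
  have hE₁G : E₁ ≤ G := hE₁le.trans (IntermediateField.adjoin_le_iff.2 (by
    rintro z (rfl | rfl)
    exacts [hrG, hβG]))
  have hT₂ := Epp.Tight.extend (A := A₀) hW₀ hE₁G hT₁
  set F₂ := F₁ ⊔ IntermediateField.adjoin L₀ (G : Set Ω)
  obtain ⟨hGF, ϖ, hϖG, hϖ0, hϖ1, hmax⟩ := hT₂
  have hLhF : ∀ x : Lh, algebraMap Lh Ω x ∈ F₂ := fun x => (le_sup_left : F₁ ≤ F₂) (hN₁ ⟨x, rfl⟩)
  let Fh : IntermediateField Lh Ω := F₂.toSubfield.toIntermediateField hLhF
  have hauto : ∀ σ : Ω ≃ₐ[L₀] Ω, W.comap (σ : Ω →+* Ω) = W := fun σ => by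
    refine Epp.valuationSubring_unique hW₀ ⟨fun b => ?_, fun b hb => ?_⟩
    · show σ (algebraMap L₀ Ω (algebraMap B₀ L₀ b)) ∈ W
      rw [σ.commutes]; exact hW₀.1 b
    · rw [valuation_lt_one_comap]
      show W.valuation (σ (algebraMap L₀ Ω (algebraMap B₀ L₀ b))) < 1
      rw [σ.commutes]; exact hW₀.2 b hb
  have hfW : ∀ M y (z : Ω), ((fM M y).map ρ).IsRoot z ↔ eval₂ W.subtype z ((fM M y).map ρW) = 0 := fun M y z => by
    rw [IsRoot.def, eval_map, (eval₂_map ρW W.subtype z : eval₂ W.subtype z ((fM M y).map ρW) = _)]; rfl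
  have hzW : ∀ (f : R[X]), f.Monic → ∀ z : Ω, (f.map ρ).IsRoot z → W.valuation z ≤ 1 := fun f hf z hz => by
    refine (W.valuation_le_one_iff _).2 (mem_of_root W (hf.map ρW) (r := z) ?_)
    rw [eval₂_map]; rw [IsRoot.def, eval_map] at hz; exact hz
  have hdiff : ∀ M, ∀ y ∈ Y, ∀ z : Ω, W.valuation z ≤ 1 →
      W.valuation (((f₀ y).map ρ).eval z - ((fM M y).map ρ).eval z) ≤ vτ ^ (M + 1) := fun M y hy z hz => by
    refine le_trans (valuation_eval_sub_le W hz (d := ρ τ ^ (M + 1)) fun l => ?_) (map_pow W.valuation (ρ τ) (M + 1)).le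
    rw [coeff_map, coeff_map, ← map_sub, map_pow W.valuation, map_sub, Valuation.map_sub_swap, ← map_sub]
    exact hvm _ _ (hclose M y hy l)
  -- roots of the approximate polynomials lie in `F₂`
  have hroots : ∀ M, k₁ * n ≤ M → ∀ y ∈ Y, ∀ z : Ω, ((fM M y).map ρ).IsRoot z → z ∈ F₂ := by
    intro M hM y hy z hz
    have hd₀ : ((f₀ y).map ρ).natDegree = n := by rw [(monic_polyOf _ _).natDegree_map, natDegree_polyOf]
    obtain ⟨β, hβ, hβle⟩ := exists_root_close W ((monic_polyOf _ _).map ρ : ((f₀ y).map ρ).Monic) (by rw [hd₀]; exact hn) z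
    rw [hd₀] at hβle
    have hz1 := hzW _ (hfd M y).2 z hz
    have h1 : W.valuation (z - β) ^ n ≤ vτ ^ (M + 1) := by
      refine hβle.trans ?_
      have := hdiff M y hy z hz1
      rwa [hz.eq_zero, sub_zero] at this
    have hkM : k₁ ≤ M := le_trans (Nat.le_mul_of_pos_right _ hn) hM
    refine mem_of_close W hauto F₂ ((hfd M y).2.map ρW) (fun l => ?_) ((hfW M y z).1 hz) (β := β) (c := ρ (disc M y))
      (hGF β (IntermediateField.subset_adjoin K₀ _ (Set.mem_insert_of_mem _ ⟨y, hy, hβ⟩))) (hLhF _) ?_ ?_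
    · rw [coeff_map]; exact hLhF _
    · rw [hk₁ M hkM y hy]
      by_contra hlt
      have h2 := (pow_le_pow_left₀ zero_le (not_lt.1 hlt) n).trans h1
      rw [← pow_mul] at h2
      exact absurd h2 (not_le.2 (pow_lt_pow_right_of_lt_one₀ hτ0 hτ1 (by omega)))
    · have hd : ((fM M y).map ρW).natDegree = n := by rw [(hfd M y).2.natDegree_map, (hfd M y).1]
      have h3 := valuation_resultant_le W ((hfd M y).2.map ρW) (by rw [hd]; exact hn) ((hfW M y z).1 hz)
      rw [hd] at h3
      refine le_trans (le_of_eq ?_) h3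
      rw [derivative_map, resultant_map_map]
      rfl
  -- approximation
  let T : ℕ → Set Ω := fun M => insert r {z | ∃ y ∈ Y, ((fM M y).map ρ).IsRoot z}
  let U : ℕ → Subfield Ω := fun M => (IntermediateField.adjoin K (T M ∪ unrSet K Lh Ω)).toSubfield
  have hτex : ∃ x : Ω, x ≠ 0 ∧ W.valuation x < 1 := ⟨ρ τ, (Valuation.ne_zero_iff _).1 hτ0.ne', hτ1⟩
  have happA : ∀ a : A₀, Approximable W U (κ a) := by
    intro a c hc
    obtain ⟨k, hk⟩ := exists_pow_le hW hτ hc
    obtain ⟨b, w, hw', hsum⟩ := exists_expansion p ht.maximalIdeal_eq k a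
    choose v hv using fun m => (hw' m).2 k
    choose yl hyl hyu using fun m => exists_unr_lift (K := K) (Lh := Lh) (Ω := Ω) ψ hK (hres _ (gA (v m)).2)
    refine ⟨0, fun M _ => ⟨ρ (∑ m ∈ Finset.range k, yl m ^ p ^ k * ψ π₀ ^ m), ?_, ?_⟩⟩
    · rw [map_sum]
      refine sum_mem fun m _ => ?_
      rw [map_mul, map_pow, map_pow]
      refine mul_mem (pow_mem (show ρ (yl m) ∈ U M from IntermediateField.subset_adjoin K (T M ∪ unrSet K Lh Ω) (Or.inr (hyu m))) _) (pow_mem ?_ _)
      show ρ (ψ π₀) ∈ IntermediateField.adjoin K (T M ∪ unrSet K Lh Ω)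
      rw [show ρ (ψ π₀) = algebraMap K Ω (algebraMap A K π₀) from (hK π₀).symm]
      exact IntermediateField.algebraMap_mem _ _
    · refine le_trans ?_ hk
      show W.valuation (ρ (j (i a)) - ρ _) ≤ _
      rw [← map_sub]
      refine hvm _ _ ?_
      obtain ⟨e', he'⟩ := Ideal.mem_span_singleton'.1 hsum
      rw [show a = e' * t ^ k + ∑ m ∈ Finset.range k, w m * t ^ m by rw [he']; ring, map_add, map_add, map_mul,
        map_mul, map_pow, map_pow, hjt, map_sum, map_sum, add_sub_assoc, ← Finset.sum_sub_distrib]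
      refine add_mem (Ideal.mul_mem_left _ _ (Ideal.pow_mem_pow hψπm _)) (sum_mem fun m _ => ?_)
      rw [map_mul, map_mul, map_pow, map_pow, hjt, ← sub_mul, ← hv, map_pow, map_pow]
      refine Ideal.mul_mem_right _ _ (Ideal.pow_le_pow_right k.le_succ (pow_sub_pow_mem ?_ ?_ k))
      · rw [← residue_eq_zero_iff, map_natCast, CharP.cast_eq_zero]
      · rw [← residue_eq_zero_iff, map_sub, hres₀, hyl, sub_self]
  have hGapp : ∀ x ∈ G, x ∈ approxField W U hτex := by
    let AF : IntermediateField K₀ Ω := (approxField W U hτex).toIntermediateField fun x => by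
      obtain ⟨a, b, -, rfl⟩ := IsFractionRing.div_surjective (A := A₀) x
      rw [map_div₀, hκ, hκ]
      exact div_mem (happA a) (happA b)
    refine fun x hx => (IntermediateField.adjoin_le_iff.2 ?_ : G ≤ AF) hx
    rintro z (rfl | ⟨y, hy, hz⟩)
    · exact approximable_of_mem W U fun M => IntermediateField.subset_adjoin K (T M ∪ unrSet K Lh Ω) (Or.inl (Set.mem_insert _ _))
    intro c hc
    obtain ⟨k, hk⟩ := exists_pow_le hW hτ (pow_ne_zero n hc)
    refine ⟨k, fun M hM => ?_⟩
    have hdM : ((fM M y).map ρ).natDegree = n := by rw [(hfd M y).2.natDegree_map, (hfd M y).1]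
    obtain ⟨α, hα, hαle⟩ := exists_root_close W ((hfd M y).2.map ρ) (by rw [hdM]; exact hn) z
    rw [hdM] at hαle
    refine ⟨α, IntermediateField.subset_adjoin K (T M ∪ unrSet K Lh Ω) (Or.inl (Set.mem_insert_of_mem _ ⟨y, hy, hα⟩)), ?_⟩
    have h1 := hdiff M y hy z (hzW _ (monic_polyOf _ _) z hz)
    rw [hz.eq_zero, zero_sub, Valuation.map_neg] at h1
    have h2 : W.valuation (z - α) ^ n ≤ W.valuation c ^ n := by
      refine (hαle.trans h1).trans (le_trans ?_ ((map_pow W.valuation c n) ▸ hk))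
      exact pow_le_pow_right_of_le_one' hτ1.le (by omega)
    exact (pow_le_pow_iff_left₀ zero_le zero_le hn.ne').1 h2
  obtain ⟨M₀, hM₀⟩ := hGapp ϖ hϖG (ϖ * ρ τ) (mul_ne_zero hϖ0 ((Valuation.ne_zero_iff _).1 hτ0.ne'))
  set M := max M₀ (k₁ * n)
  obtain ⟨ϖ', hϖ'U, hϖ'le⟩ := hM₀ M (le_max_left _ _)
  have hveq : W.valuation ϖ' = W.valuation ϖ := by
    rw [show ϖ' = ϖ - (ϖ - ϖ') by ring]
    refine W.valuation.map_sub_eq_of_lt_left (lt_of_le_of_lt hϖ'le ?_)
    rw [map_mul]
    exact mul_lt_of_lt_one_right (zero_lt_iff.2 ((Valuation.ne_zero_iff _).2 hϖ0)) hτ1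
  obtain ⟨Z, hZ, hϖ'Z⟩ := IntermediateField.exists_finset_of_mem_adjoin (F := K) hϖ'U
  -- algebraic over `K`, with conjugates in `F₂`
  let Kb := algebraicClosure K Ω
  have hconjY : ∀ y ∈ Y, IsIntegral K (ρ y) ∧ ∀ z', aeval z' (minpoly K (ρ y)) = 0 → ∃ y' ∈ Y, ρ y' = z' := by
    intro y hy
    have hι : (algebraMap K Ω).comp (algebraMap A K) = ρ.comp ψ := RingHom.ext hK
    obtain ⟨hint, hc⟩ := eval_minpoly_dvd ψ hK (h := h) (z := ρ y) (by rw [hι, ← hom_eval₂, hy, map_zero]) hh
    refine ⟨hint, fun z' hz' => ?_⟩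
    obtain ⟨y', hy', rfl⟩ := hall ρ hρinj z' (hι ▸ hc z' hz')
    exact ⟨y', hy', rfl⟩
  have hT : ∀ z ∈ T M ∪ unrSet K Lh Ω, IsIntegral K z ∧ ∀ z', aeval z' (minpoly K z) = 0 → z' ∈ F₂ := by
    rintro z ((hzr | ⟨y, hy, hz⟩) | hz)
    · rw [hzr]
      have hrρ : r ^ p ^ d = ρ (ψ π₀) := by rw [hr, hκ, ← hjt]; rfl
      have hrK : r ^ p ^ d = algebraMap K Ω (algebraMap A K π₀) := by rw [hrρ, hK]; rfl
      refine ⟨IsIntegral.of_pow (pow_pos (Fact.out : p.Prime).pos d) (hrK ▸ isIntegral_algebraMap), fun z' hz' => ?_⟩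
      have h0 : aeval r (X ^ p ^ d - C (algebraMap A K π₀)) = 0 := by rw [map_sub, map_pow, aeval_X, aeval_C, hrK, sub_self]
      obtain ⟨c, hc⟩ := minpoly.dvd K r h0
      have h1 := congrArg (aeval z') hc
      rw [map_sub, map_pow, aeval_X, aeval_C, map_mul, hz', zero_mul, sub_eq_zero, ← hrK] at h1
      suffices z' = r from this ▸ hGF r hrG
      rcases hdc with rfl | hcK₀
      · simpa using h1
      · haveI := hcK₀
        haveI : CharP Ω p := charP_of_injective_algebraMap (algebraMap K₀ Ω).injective p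
        exact pow_injective (p := p) d h1
    · obtain ⟨hyint, hyconj⟩ := hconjY y hy
      let yb : Kb := ⟨ρ y, mem_algebraicClosure_iff.2 hyint.isAlgebraic⟩
      let θ : A[X] →+* Kb := eval₂RingHom ((algebraMap K Kb).comp (algebraMap A K)) yb
      have hθ : (algebraMap Kb Ω).comp θ = ρ.comp (eval₂RingHom ψ y) := by
        refine Polynomial.ringHom_ext (fun a => ?_) ?_
        · simp only [θ, RingHom.comp_apply, coe_eval₂RingHom, eval₂_C]
          rw [← IsScalarTower.algebraMap_apply K Kb Ω, hK]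
          rfl
        · simp only [θ, RingHom.comp_apply, coe_eval₂RingHom, eval₂_X]
          rfl
      have hz0 : ((Cp M).map θ).eval₂ (algebraMap Kb Ω) z = 0 := by
        rw [eval₂_map, hθ, ← eval_map, ← Polynomial.map_map]
        exact hz
      have hzint : IsIntegral K z := by
        haveI : Algebra.IsIntegral K Kb := Algebra.IsAlgebraic.isIntegral
        exact isIntegral_trans z ⟨(Cp M).map θ, (monic_polyOf _ _).map θ, hz0⟩
      refine ⟨hzint, fun z' hz' => ?_⟩
      let zb : Kb := ⟨z, mem_algebraicClosure_iff.2 hzint.isAlgebraic⟩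
      obtain ⟨φ, hφ⟩ := IntermediateField.exists_algHom_of_splits_of_aeval (E := Kb) (K := Ω)
        (fun x => ⟨Algebra.IsIntegral.isIntegral x, IsAlgClosed.splits _⟩) (x := zb) (y := z') (by
          rw [show minpoly K zb = minpoly K z from
            (minpoly.algebraMap_eq (A := K) (algebraMap Kb Ω).injective zb).symm]
          exact hz')
      have hzb : ((Cp M).map θ).eval zb = 0 := by
        apply (algebraMap Kb Ω).injective
        rw [map_zero, ← eval₂_at_apply]
        exact hz0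
      obtain ⟨y', hy', hy'z⟩ := hyconj (φ yb) (by
        rw [aeval_algHom_apply, show minpoly K (ρ y) = minpoly K yb from
          minpoly.algebraMap_eq (A := K) (algebraMap Kb Ω).injective yb, minpoly.aeval, map_zero])
      have hφθ : (φ : Kb →+* Ω).comp θ = ρ.comp (eval₂RingHom ψ y') := by
        refine Polynomial.ringHom_ext (fun a => ?_) ?_
        · simp only [θ, RingHom.comp_apply, coe_eval₂RingHom, eval₂_C, RingHom.coe_coe, AlgHom.commutes]
          rw [hK]; rfl
        · simp only [θ, RingHom.comp_apply, coe_eval₂RingHom, eval₂_X, RingHom.coe_coe]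
          exact hy'z.symm
      refine hroots M (le_max_right _ _) y' hy' z' ?_
      rw [IsRoot.def, Polynomial.map_map, ← hφθ, eval_map, ← eval₂_map, ← hφ]
      show eval₂ (φ : Kb →+* Ω) ((φ : Kb →+* Ω) zb) ((Cp M).map θ) = 0
      rw [eval₂_at_apply, hzb, map_zero]
    · refine ⟨hz.1, fun z' hz' => ?_⟩
      obtain ⟨x, rfl⟩ := hz.2 z' hz'
      exact hLhF x
  -- the normal extension
  let Gp : K[X] := ∏ z ∈ Z, minpoly K z
  have hGp : Gp ≠ 0 := Finset.prod_ne_zero_iff.2 fun z hz => minpoly.ne_zero (hT z (hZ hz)).1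
  let E : IntermediateField K Ω := IntermediateField.adjoin K (Gp.rootSet Ω)
  haveI := IntermediateField.adjoin_rootSet_isSplittingField (K := K) (p := Gp) (L := Ω) (IsAlgClosed.splits _)
  have hEfin : FiniteDimensional K E := Polynomial.IsSplittingField.finiteDimensional E Gp
  have hEn : Normal K E := Normal.of_isSplittingField Gp
  have hEF : ∀ x ∈ E, x ∈ F₂ := by
    have h1 : E.toSubfield ≤ F₂.toSubfield := by
      show Subfield.closure _ ≤ _
      rw [Subfield.closure_le]
      rintro x (⟨k, rfl⟩ | hx)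
      · obtain ⟨a, b, -, rfl⟩ := IsFractionRing.div_surjective (A := A) k
        rw [map_div₀, hK, hK]
        exact div_mem (hLhF _) (hLhF _)
      · obtain ⟨-, hx⟩ := mem_rootSet.1 hx
        rw [map_prod, Finset.prod_eq_zero_iff] at hx
        obtain ⟨z, hz, hzx⟩ := hx
        exact (hT z (hZ hz)).2 x hzx
    exact fun x hx => h1 hx
  refine ⟨E, Fh, hEfin, hEn, hEF, ϖ', ?_, fun h0 => hϖ0 ((Valuation.zero_iff _).1 (by rw [← hveq, h0, map_zero])),
    hveq ▸ hϖ1, fun x hx hx1 => hveq ▸ hmax x hx hx1⟩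
  refine (IntermediateField.adjoin.mono K _ _ fun z hz => mem_rootSet.2 ⟨hGp, ?_⟩ : IntermediateField.adjoin K (Z : Set Ω) ≤ E) hϖ'Z
  rw [map_prod]
  exact Finset.prod_eq_zero hz (minpoly.aeval K z)

end Groth.Agent.EtRam7.EppGen
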