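import Groth.Agent.CohenLib.Structure
import Mathlib

/-! Multiplicative representatives and polynomial congruences in complete discrete valuation rings. -/

set_option autoImplicit false
set_option linter.style.haveILetI false
set_option linter.unusedSectionVars false
universe u

namespace Groth.Agent.EtRam7.EppGen

open IsLocalRing Polynomial

theorem pow_sub_pow_mem {R : Type u} [CommRing R] [IsLocalRing R] {p : ℕ} (hpm : (p : R) ∈ maximalIdeal R) {a b : R}
    (h : a - b ∈ maximalIdeal R) : ∀ n : ℕ, a ^ p ^ n - b ^ p ^ n ∈ maximalIdeal R ^ (n + 1)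
  | 0 => by simpa using h
  | n + 1 => by
    have ih := pow_sub_pow_mem hpm h n
    have h1 : a ^ p ^ n - b ^ p ^ n ∈ maximalIdeal R := Ideal.pow_le_self n.succ_ne_zero ih
    rw [pow_succ p, pow_mul, pow_mul, ← geom_sum₂_mul, pow_succ _ (n + 1), mul_comm (maximalIdeal R ^ (n + 1))]
    refine Ideal.mul_mem_mul ?_ ih
    rw [← residue_eq_zero_iff, map_sum]
    have h2 : residue R (a ^ p ^ n) = residue R (b ^ p ^ n) := sub_eq_zero.1 (by rw [← map_sub]; exact (residue_eq_zero_iff _).2 h1)
    simp only [map_mul, map_pow _ _ (_ : ℕ)] at h2 ⊢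
    simp only [h2, ← pow_add]
    rw [Finset.sum_congr rfl (fun i hi => congrArg (fun j => (residue R b ^ p ^ n) ^ j)
      (show i + (p - 1 - i) = p - 1 by have := Finset.mem_range.1 hi; omega)), Finset.sum_const, Finset.card_range,
      nsmul_eq_mul, ← map_natCast (residue R), (residue_eq_zero_iff _).2 hpm, zero_mul]

theorem eq_of_sub_mem_pow {R : Type u} [CommRing R] [IsLocalRing R] [IsHausdorff (maximalIdeal R) R] {x y : R}
    (h : ∀ n, x - y ∈ maximalIdeal R ^ (n + 1)) : x = y := by
  have hh : IsHausdorff (maximalIdeal R) R := inferInstance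
  refine sub_eq_zero.1 (hh.haus _ fun n => ?_)
  rw [SModEq.zero, smul_eq_mul, Ideal.mul_top]
  exact Ideal.pow_le_pow_right n.le_succ (h n)

/-- A multiplicative representative: a `p ^ n`-th power for every `n`. -/
def IsTeich {R : Type u} [CommRing R] (p : ℕ) (w : R) : Prop := ∀ n : ℕ, ∃ v : R, v ^ p ^ n = w

section Teich

variable {R : Type u} [CommRing R] [IsLocalRing R] [IsAdicComplete (maximalIdeal R) R] (p : ℕ) [Fact p.Prime]
  [CharP (ResidueField R) p] [PerfectRing (ResidueField R) p]

theorem natCast_mem : (p : R) ∈ maximalIdeal R := by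
  rw [← residue_eq_zero_iff, map_natCast, CharP.cast_eq_zero]

theorem exists_teich (b : ResidueField R) : ∃ w : R, residue R w = b ∧ IsTeich p w := by
  classical
  choose u hu using fun (c : ResidueField R) (n : ℕ) => residue_surjective ((iterateFrobeniusEquiv (ResidueField R) p n).symm c)
  have hroot : ∀ c n, ((iterateFrobeniusEquiv (ResidueField R) p n).symm c) ^ p ^ n = c := fun c n => by
    rw [← iterateFrobeniusEquiv_def (p := p), RingEquiv.apply_symm_apply]
  -- successive roots are congruent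
  have hcong : ∀ (c : ResidueField R) (n : ℕ) (v : R), residue R v ^ p ^ n = c → v ^ p ^ n - u c n ^ p ^ n ∈ maximalIdeal R ^ (n + 1) := by
    intro c n v hv
    refine pow_sub_pow_mem (natCast_mem p) ?_ n
    rw [← residue_eq_zero_iff, map_sub, sub_eq_zero, hu]
    exact (iterateFrobenius (ResidueField R) p n).injective (by rw [iterateFrobenius_def, iterateFrobenius_def, hv, hroot])
  have hlim : ∀ c : ResidueField R, ∃ w : R, ∀ n, w - u c n ^ p ^ n ∈ maximalIdeal R ^ (n + 1) := by
    intro c
    obtain ⟨w, hw⟩ := IsPrecomplete.prec (inferInstance : IsPrecomplete (maximalIdeal R) R)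
      (f := fun n => u c n ^ p ^ n) (fun {a b} hab => by
        rw [SModEq.sub_mem, smul_eq_mul, Ideal.mul_top]
        obtain ⟨d, rfl⟩ := Nat.exists_eq_add_of_le hab
        have h1 := hcong c a (u c (a + d) ^ p ^ d) (by
          rw [map_pow, hu, ← pow_mul, ← pow_add, add_comm d a, hroot])
        rw [← pow_mul, ← pow_add, add_comm d a] at h1
        have h2 := neg_mem (Ideal.pow_le_pow_right a.le_succ h1)
        rwa [neg_sub] at h2)
    refine ⟨w, fun n => ?_⟩
    have h1 := hw (n + 1)
    rw [SModEq.sub_mem, smul_eq_mul, Ideal.mul_top] at h1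
    have h2 := hcong c n (u c (n + 1) ^ p) (by
      rw [map_pow, hu, ← pow_mul, ← pow_succ', hroot])
    rw [← pow_mul, ← pow_succ'] at h2
    have h3 := sub_mem h2 h1
    rwa [sub_sub_sub_cancel_left] at h3
  choose w hw using hlim
  have hres : ∀ c, residue R (w c) = c := fun c => by
    have h1 := (residue_eq_zero_iff _).2 (by simpa only [zero_add, pow_one, pow_zero] using hw c 0)
    rw [map_sub, sub_eq_zero, hu] at h1
    rw [h1]; simpa using hroot c 0
  refine ⟨w b, hres b, fun m => ⟨w ((iterateFrobeniusEquiv (ResidueField R) p m).symm b), eq_of_sub_mem_pow fun n => ?_⟩⟩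
  set c := (iterateFrobeniusEquiv (ResidueField R) p m).symm b
  obtain ⟨e, he⟩ : (w c - u c n ^ p ^ n) ∣ w c ^ p ^ m - (u c n ^ p ^ n) ^ p ^ m := sub_dvd_pow_sub_pow _ _ _
  have h1 : w c ^ p ^ m - u c n ^ p ^ (n + m) ∈ maximalIdeal R ^ (n + 1) := by
    rw [pow_add p n m, pow_mul, he]; exact Ideal.mul_mem_right _ _ (hw c n)
  have h2 := hcong b (n + m) (u c n) (by rw [hu, pow_add, pow_mul, hroot, hroot])
  have h3 := Ideal.pow_le_pow_right (by omega : n + 1 ≤ n + m + 1) (sub_mem h2 (hw b (n + m)))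
  have h4 := add_mem h1 h3
  convert h4 using 1
  ring

theorem exists_expansion {t : R} (ht : maximalIdeal R = Ideal.span {t}) :
    ∀ (N : ℕ) (a : R), ∃ (b : ℕ → ResidueField R) (w : ℕ → R), (∀ l, residue R (w l) = b l ∧ IsTeich p (w l)) ∧
      a - ∑ l ∈ Finset.range N, w l * t ^ l ∈ Ideal.span {t ^ N}
  | 0, a => by
    choose w hw using fun _ : ℕ => exists_teich p (0 : ResidueField R)
    exact ⟨fun _ => 0, w, hw, by simp⟩
  | N + 1, a => by
    obtain ⟨w₀, hw₀, hT₀⟩ := exists_teich p (residue R a)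
    have hm : a - w₀ ∈ maximalIdeal R := by rw [← residue_eq_zero_iff, map_sub, hw₀, sub_self]
    obtain ⟨a', ha'⟩ := Ideal.mem_span_singleton'.1 (ht ▸ hm)
    obtain ⟨b, w, hw, hsum⟩ := exists_expansion ht N a'
    obtain ⟨e, he⟩ := Ideal.mem_span_singleton'.1 hsum
    refine ⟨fun l => if l = 0 then residue R a else b (l - 1), fun l => if l = 0 then w₀ else w (l - 1), fun l => ?_, ?_⟩
    · by_cases hl : l = 0
      · simp [hl, hw₀, hT₀]
      · simpa [hl] using hw (l - 1)
    · rw [Finset.sum_range_succ']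
      simp only [Nat.add_one_ne_zero, if_false, Nat.add_sub_cancel, if_true, pow_zero, mul_one]
      refine Ideal.mem_span_singleton'.2 ⟨e, ?_⟩
      have h2 : ∑ x ∈ Finset.range N, w x * t ^ (x + 1) = t * ∑ x ∈ Finset.range N, w x * t ^ x := by
        rw [Finset.mul_sum]
        exact Finset.sum_congr rfl fun x _ => by ring
      rw [h2]
      linear_combination t * he + ha'

end Teich

/-- In equal characteristic `p`, a complete DVR with perfect residue field is spanned by `1, …, t^(q-1)` over `q`-th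
powers. -/
theorem exists_pow_expansion {R : Type u} [CommRing R] [IsDomain R] [IsDiscreteValuationRing R]
    [IsAdicComplete (maximalIdeal R) R] (p : ℕ) [Fact p.Prime] [CharP R p] [CharP (ResidueField R) p]
    [PerfectRing (ResidueField R) p] {t : R} (ht : Irreducible t) (d : ℕ) (a : R) :
    ∃ c : Fin (p ^ d) → R, a = ∑ i : Fin (p ^ d), c i ^ p ^ d * t ^ (i : ℕ) := by
  classical
  have htm : maximalIdeal R = Ideal.span {t} := ht.maximalIdeal_eq
  let g : (Fin (p ^ d) → R) → R := fun c => ∑ i : Fin (p ^ d), c i ^ p ^ d * t ^ (i : ℕ)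
  have hstep : ∀ x : R, ∃ (c : Fin (p ^ d) → R) (e : R), x = g c + t ^ p ^ d * e := by
    intro x
    obtain ⟨b, w, hw, hsum⟩ := exists_expansion p htm (p ^ d) x
    choose v hv using fun l => (hw l).2 d
    obtain ⟨e, he⟩ := Ideal.mem_span_singleton'.1 hsum
    refine ⟨fun i => v i, e, ?_⟩
    have h1 : g (fun i => v i) = ∑ l ∈ Finset.range (p ^ d), w l * t ^ l := by
      simp only [g]
      rw [Fin.sum_univ_eq_sum_range fun i => v i ^ p ^ d * t ^ i]
      exact Finset.sum_congr rfl fun i _ => by rw [hv]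
    rw [h1]; linear_combination -he
  choose C₀ E₀ hCE using hstep
  let e : ℕ → R := fun J => E₀^[J] a
  let S : ℕ → Fin (p ^ d) → R := fun J i => ∑ j ∈ Finset.range J, t ^ j * C₀ (e j) i
  have hS : ∀ J, a = g (S J) + t ^ (p ^ d * J) * e J := by
    intro J
    induction J with
    | zero => simp [g, S, e, zero_pow (pow_ne_zero d (Fact.out : p.Prime).ne_zero)]
    | succ J ih =>
      have h1 : g (S (J + 1)) = g (S J) + t ^ (p ^ d * J) * g (C₀ (e J)) := by
        simp only [g, S]
        rw [Finset.mul_sum, ← Finset.sum_add_distrib]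
        refine Finset.sum_congr rfl fun i _ => ?_
        rw [Finset.sum_range_succ, add_pow_char_pow, mul_pow, ← pow_mul, mul_comm J]
        ring
      have h2 : e (J + 1) = E₀ (e J) := Function.iterate_succ_apply' E₀ J a
      rw [h1, h2, Nat.mul_succ, pow_add]
      linear_combination ih + t ^ (p ^ d * J) * hCE (e J)
  have hcauchy : ∀ i : Fin (p ^ d), ∃ c : R, ∀ J, S J i - c ∈ maximalIdeal R ^ J := by
    intro i
    obtain ⟨c, hc⟩ := IsPrecomplete.prec (inferInstance : IsPrecomplete (maximalIdeal R) R)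
      (f := fun J => S J i) (fun {m n} hmn => by
        rw [SModEq.sub_mem, smul_eq_mul, Ideal.mul_top]
        have h1 : S m i - S n i = -∑ j ∈ Finset.Ico m n, t ^ j * C₀ (e j) i := by
          simp only [S]; rw [← Finset.sum_range_add_sum_Ico _ hmn]; ring
        rw [h1]
        refine neg_mem (sum_mem fun j hj => Ideal.mul_mem_right _ _ ?_)
        exact Ideal.pow_le_pow_right (Finset.mem_Ico.1 hj).1
          (Ideal.pow_mem_pow (htm ▸ Ideal.mem_span_singleton_self t) j))
    refine ⟨c, fun J => ?_⟩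
    simpa [SModEq.sub_mem] using hc J
  choose c hc using hcauchy
  refine ⟨c, eq_of_sub_mem_pow fun J => ?_⟩
  have hge : J + 1 ≤ p ^ d * (J + 1) := Nat.le_mul_of_pos_left _ (pow_pos (Fact.out : p.Prime).pos d)
  have h1 : a - g c = (g (S (J + 1)) - g c) + t ^ (p ^ d * (J + 1)) * e (J + 1) := by
    linear_combination hS (J + 1)
  show a - g c ∈ _
  rw [h1]
  refine add_mem ?_ (Ideal.mul_mem_right _ _ (Ideal.pow_le_pow_right hge
    (Ideal.pow_mem_pow (htm ▸ Ideal.mem_span_singleton_self t) _)))
  simp only [g]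
  rw [← Finset.sum_sub_distrib]
  refine sum_mem fun i _ => ?_
  rw [← sub_mul, ← sub_pow_char_pow]
  exact Ideal.mul_mem_right _ _ (Ideal.pow_mem_of_mem _ (hc i (J + 1)) _ (pow_pos (Fact.out : p.Prime).pos d))

/-- A polynomial has the same order at all roots of a polynomial with irreducible reduction. -/
theorem eval_eq_zero_or_exists {A R : Type u} [CommRing A] [IsDomain A] [IsDiscreteValuationRing A]
    [CommRing R] [IsLocalRing R] (ψ : A →+* R) [IsLocalHom ψ] {π : A} (hπ : Irreducible π)
    (h : A[X]) (hm : h.Monic) (hirr : Irreducible (h.map (residue A))) (D : A[X]) :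
    (∀ y : R, h.eval₂ ψ y = 0 → D.eval₂ ψ y = 0) ∨
      ∃ j : ℕ, ∀ y : R, h.eval₂ ψ y = 0 → ∃ c : R, IsUnit c ∧ D.eval₂ ψ y = c * ψ π ^ j := by
  classical
  set E := D %ₘ h
  have hDE : ∀ y : R, h.eval₂ ψ y = 0 → D.eval₂ ψ y = E.eval₂ ψ y := fun y hy => by
    conv_lhs => rw [← modByMonic_add_div D h]
    rw [eval₂_add, eval₂_mul, hy, zero_mul, add_zero]
  by_cases hE : E = 0
  · exact Or.inl fun y hy => by rw [hDE y hy, hE, eval₂_zero]
  refine Or.inr ?_
  obtain ⟨i, hi⟩ : ∃ i, E.coeff i ≠ 0 := by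
    by_contra hh
    push Not at hh
    exact hE (Polynomial.ext fun i => by rw [hh i, coeff_zero])
  obtain ⟨n, u, hu⟩ := IsDiscreteValuationRing.eq_unit_mul_pow_irreducible hi hπ
  have hex : ∃ j, ¬ C (π ^ (j + 1)) ∣ E := ⟨n, fun hd => by
    have h1 := (C_dvd_iff_dvd_coeff _ _).1 hd i
    rw [hu, IsUnit.dvd_mul_left u.isUnit] at h1
    have := (pow_dvd_pow_iff hπ.ne_zero hπ.not_isUnit).1 h1
    omega⟩
  set j := Nat.find hex
  obtain ⟨U, hU⟩ : C (π ^ j) ∣ E := by
    rcases Nat.eq_zero_or_pos j with h0 | h0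
    · rw [h0, pow_zero, map_one]; exact one_dvd _
    · have := not_not.1 (Nat.find_min hex (show j - 1 < j by omega))
      rwa [show j - 1 + 1 = j by omega] at this
  have hU0 : U.map (residue A) ≠ 0 := fun h0 => Nat.find_spec hex (by
    rw [pow_succ, map_mul]
    refine (?_ : C (π ^ j) * C π ∣ C (π ^ j) * U).trans (dvd_of_eq hU.symm)
    refine mul_dvd_mul_left _ ((C_dvd_iff_dvd_coeff _ _).2 fun l => ?_)
    rw [← Ideal.mem_span_singleton, ← hπ.maximalIdeal_eq, ← residue_eq_zero_iff, ← coeff_map, h0, coeff_zero])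
  have hcop : IsCoprime (h.map (residue A)) (U.map (residue A)) := by
    refine hirr.coprime_iff_not_dvd.2 fun hd => ?_
    have h1 := natDegree_le_of_dvd hd hU0
    have h2 : (U.map (residue A)).natDegree ≤ U.natDegree := natDegree_map_le
    have h3 : U.natDegree = E.natDegree := by
      rw [hU, natDegree_C_mul (pow_ne_zero _ hπ.ne_zero)]
    have h4 : E.natDegree < h.natDegree := natDegree_modByMonic_lt D hm (fun h1 => by
      rw [h1, Polynomial.map_one] at hirr; exact hirr.not_isUnit isUnit_one)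
    rw [hm.natDegree_map] at h1
    omega
  refine ⟨j, fun y hy => ⟨U.eval₂ ψ y, ?_, ?_⟩⟩
  · obtain ⟨a, b, hab⟩ := hcop
    rw [← residue_ne_zero_iff_isUnit]
    intro h0
    have h1 := congrArg (Polynomial.eval₂ (ResidueField.map ψ) (residue R y)) hab
    have hmap : ∀ P : A[X], (P.map (residue A)).eval₂ (ResidueField.map ψ) (residue R y) = residue R (P.eval₂ ψ y) :=
      fun P => by rw [eval₂_map, hom_eval₂]; rfl
    rw [eval₂_add, eval₂_mul, eval₂_mul, hmap, hmap, hy, h0, map_zero, mul_zero, mul_zero, add_zero, eval₂_one] at h1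
    exact zero_ne_one h1
  · rw [hDE y hy, hU, eval₂_mul, eval₂_C, map_pow]; ring

end Groth.Agent.EtRam7.EppGen

namespace Groth.Agent.EtRam7.EppGen

open IsLocalRing

/-- Multiplicative representatives are unique. -/
theorem IsTeich.eq {R : Type u} [CommRing R] [IsLocalRing R] [IsAdicComplete (maximalIdeal R) R] {p : ℕ} [Fact p.Prime]
    [CharP (ResidueField R) p] {w w' : R} (hw : IsTeich p w) (hw' : IsTeich p w') (h : residue R w = residue R w') : w = w' := by
  refine eq_of_sub_mem_pow fun n => ?_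
  obtain ⟨v, rfl⟩ := hw n
  obtain ⟨v', rfl⟩ := hw' n
  refine pow_sub_pow_mem (by rw [← residue_eq_zero_iff, map_natCast, CharP.cast_eq_zero]) ?_ n
  rw [← residue_eq_zero_iff, map_sub, sub_eq_zero]
  rw [map_pow, map_pow] at h
  exact (iterateFrobenius (ResidueField R) p n).injective (by rw [iterateFrobenius_def, iterateFrobenius_def, h])

end Groth.Agent.EtRam7.EppGen
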