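import Groth.Agent.EtRam7.EppGen.Residue
import Groth.Agent.EtRam7.EppGen.Teich
import Groth.Agent.EtRam7.EppGen.Data
import Groth.Agent.EtRam7.EppGen.Approx
import Groth.Agent.EtRam7.Epp.Main
import Mathlib

/-! Lifting residues by unramified roots; approximation of the complete base. -/

set_option autoImplicit false
set_option linter.style.haveILetI false
set_option linter.unusedSectionVars false
universe u

namespace Groth.Agent.EtRam7.EppGen

open IsLocalRing Polynomial

section

variable {A R : Type u} [CommRing A] [IsDomain A] [IsDiscreteValuationRing A] [CommRing R] [IsDomain R]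
  [IsDiscreteValuationRing R] [IsAdicComplete (maximalIdeal R) R] [IsSepClosed (ResidueField R)]
  (ψ : A →+* R) [IsLocalHom ψ]

/-- All roots of a lift of a separable irreducible polynomial lie in `R`. -/
theorem exists_lifts {ε : ResidueField R} (hε : letI := (ResidueField.map ψ).toAlgebra; IsSeparable (ResidueField A) ε) :
    ∃ (h : A[X]) (y₀ : R), h.Monic ∧ Irreducible (h.map (residue A)) ∧ h.eval₂ ψ y₀ = 0 ∧ residue R y₀ = ε ∧
      (∀ {Ω : Type u} [Field Ω] (ι : R →+* Ω), Function.Injective ι → ∀ z : Ω, h.eval₂ (ι.comp ψ) z = 0 →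
        ∃ y : R, h.eval₂ ψ y = 0 ∧ ι y = z) ∧ {y : R | h.eval₂ ψ y = 0}.Finite := by
  classical
  letI := (ResidueField.map ψ).toAlgebra
  haveI : HenselianLocalRing R := Hensel.henselianLocalRing_of_henselianRing R
  set m := minpoly (ResidueField A) ε
  have hm : m.Monic := minpoly.monic hε.isIntegral
  have hirr : Irreducible m := minpoly.irreducible hε.isIntegral
  obtain ⟨h, hh, hdeg, hhm⟩ := Polynomial.lifts_and_natDegree_eq_and_monic
    (show m ∈ Polynomial.lifts (residue A) from (Polynomial.lifts_iff_coeff_lifts _).2 fun i => residue_surjective _) hm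
  set hR := h.map ψ
  have hRm : hR.Monic := hhm.map ψ
  have hRres : hR.map (residue R) = m.map (algebraMap (ResidueField A) (ResidueField R)) := by
    rw [← hh, Polynomial.map_map, Polynomial.map_map]
    congr 1
  have hsep : (m.map (algebraMap (ResidueField A) (ResidueField R))).Separable := Polynomial.Separable.map hε
  have hlift : ∀ e : ResidueField R, (m.map (algebraMap (ResidueField A) (ResidueField R))).IsRoot e →
      ∃ y : R, hR.IsRoot y ∧ residue R y = e := by
    intro e he
    obtain ⟨a₀, rfl⟩ := residue_surjective e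
    rw [← hRres] at he hsep
    rw [IsRoot.def, eval_map, eval₂_at_apply] at he
    have hder : IsUnit ((derivative hR).eval a₀) := by
      rw [← residue_ne_zero_iff_isUnit, ← eval₂_at_apply, ← eval_map, ← derivative_map]
      refine hsep.aeval_derivative_ne_zero ?_
      rw [coe_aeval_eq_eval, eval_map, eval₂_at_apply, he]
    obtain ⟨y, hy, hya⟩ := HenselianLocalRing.is_henselian hR hRm a₀ ((residue_eq_zero_iff _).1 he) hder
    exact ⟨y, hy, by rw [← sub_eq_zero, ← map_sub, residue_eq_zero_iff]; exact hya⟩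
  have hsplit : (m.map (algebraMap (ResidueField A) (ResidueField R))).Splits :=
    IsSepClosed.splits_codomain _ hε
  have hcard : hR.roots.card = hR.natDegree := by
    refine le_antisymm (Polynomial.card_roots' _) ?_
    have h1 : (m.map (algebraMap (ResidueField A) (ResidueField R))).natDegree = hR.natDegree := by
      rw [natDegree_map, hhm.natDegree_map, hdeg]
    rw [← h1, hsplit.natDegree_eq_card_roots, ← Multiset.toFinset_card_of_nodup (nodup_roots hsep)]
    refine (Finset.card_le_card (fun e he => ?_)).trans ((Finset.card_image_le (f := residue R) (s := hR.roots.toFinset)).trans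
      (Multiset.toFinset_card_le _))
    obtain ⟨y, hy, rfl⟩ := hlift e (isRoot_of_mem_roots (Multiset.mem_toFinset.1 he))
    exact Finset.mem_image.2 ⟨y, Multiset.mem_toFinset.2 ((mem_roots hRm.ne_zero).2 hy), rfl⟩
  obtain ⟨y₀, hy₀, hy₀ε⟩ := hlift ε (by rw [IsRoot.def, eval_map, ← aeval_def, minpoly.aeval])
  refine ⟨h, y₀, hhm, by rw [hh]; exact hirr, by rw [← eval_map]; exact hy₀, hy₀ε, fun {Ω} _ ι hι z hz => ?_, ?_⟩
  · have h1 : (hR.map ι).roots = hR.roots.map ι :=
      (roots_map_of_injective_of_card_eq_natDegree hι hcard).symm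
    have h2 : z ∈ (hR.map ι).roots := by
      rw [mem_roots ((hRm.map ι).ne_zero), IsRoot.def, eval_map, eval₂_map]
      exact hz
    rw [h1] at h2
    obtain ⟨y, hy, rfl⟩ := Multiset.mem_map.1 h2
    exact ⟨y, by rw [← eval_map]; exact isRoot_of_mem_roots hy, rfl⟩
  · refine hR.roots.toFinset.finite_toSet.subset fun y hy => ?_
    rw [Finset.mem_coe, Multiset.mem_toFinset, mem_roots hRm.ne_zero, IsRoot.def, eval_map]
    exact hy

end

/-- Elements of the field whose conjugates all lie in the image of `L'`. -/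
def unrSet (K L' Ω : Type u) [Field K] [Field L'] [Field Ω] [Algebra K Ω] [Algebra L' Ω] : Set Ω :=
  {z | IsIntegral K z ∧ ∀ z' : Ω, aeval z' (minpoly K z) = 0 → z' ∈ Set.range (algebraMap L' Ω)}

section

variable {A K R Lh Ω : Type u} [CommRing A] [IsDomain A] [IsDiscreteValuationRing A] [Field K] [Algebra A K]
  [CommRing R] [IsDomain R] [IsDiscreteValuationRing R] [IsAdicComplete (maximalIdeal R) R]
  [IsSepClosed (ResidueField R)] (ψ : A →+* R) [IsLocalHom ψ]
  [Field Lh] [Algebra R Lh] [IsFractionRing R Lh] [Field Ω] [Algebra Lh Ω] [Algebra K Ω]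
  (hK : ∀ a : A, algebraMap K Ω (algebraMap A K a) = algebraMap Lh Ω (algebraMap R Lh (ψ a)))

include hK in
theorem eval_minpoly_dvd {h : A[X]} {z : Ω} (hz : h.eval₂ ((algebraMap K Ω).comp (algebraMap A K)) z = 0)
    (hm : h.Monic) : IsIntegral K z ∧ ∀ z', aeval z' (minpoly K z) = 0 →
      h.eval₂ ((algebraMap K Ω).comp (algebraMap A K)) z' = 0 := by
  have h0 : aeval z (h.map (algebraMap A K)) = 0 := by rw [aeval_def, eval₂_map]; exact hz
  refine ⟨⟨h.map (algebraMap A K), hm.map _, h0⟩, fun z' hz' => ?_⟩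
  obtain ⟨c, hc⟩ := minpoly.dvd K z h0
  rw [← eval₂_map, ← aeval_def, hc, map_mul, hz', zero_mul]

include hK in
/-- A separable residue lifts into `unrSet`. -/
theorem exists_unr_lift {b : ResidueField R}
    (hb : letI := (ResidueField.map ψ).toAlgebra; IsSeparable (ResidueField A) b) :
    ∃ y : R, residue R y = b ∧ algebraMap Lh Ω (algebraMap R Lh y) ∈ unrSet K Lh Ω := by
  obtain ⟨h, y, hm, -, hy, hyb, hall, -⟩ := exists_lifts ψ hb
  have hι : ((algebraMap K Ω).comp (algebraMap A K)) = ((algebraMap Lh Ω).comp (algebraMap R Lh)).comp ψ :=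
    RingHom.ext hK
  obtain ⟨hint, hconj⟩ := eval_minpoly_dvd ψ hK (z := algebraMap Lh Ω (algebraMap R Lh y)) (h := h) (by
    have h1 := hom_eval₂ h ψ ((algebraMap Lh Ω).comp (algebraMap R Lh)) y
    rw [hy, map_zero] at h1
    rw [hι]
    exact h1.symm) hm
  refine ⟨y, hyb, hint, fun z' hz' => ?_⟩
  obtain ⟨y', -, rfl⟩ := hall ((algebraMap Lh Ω).comp (algebraMap R Lh))
    ((algebraMap Lh Ω).injective.comp (IsFractionRing.injective R Lh)) z' (hι ▸ hconj z' hz')
  exact ⟨_, rfl⟩

end

end Groth.Agent.EtRam7.EppGen
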