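import Groth.Agent.EtRam7.EppGen.Main
import Groth.Agent.EtRam7.Dominate
import Groth.Agent.S7162
import Groth.Agent.S0549
import Mathlib

/-! Weak solutions in positive residue characteristic. -/

set_option autoImplicit false
set_option linter.style.haveILetI false
set_option linter.unusedSectionVars false
universe u

namespace Groth.Agent.EtRam7.EppGen

open IsLocalRing Polynomial

/-- A complete DVR extension with separably closed residue field, separable over the original one. -/
theorem exists_complete_sep (B : Type u) [CommRing B] [IsDomain B] [IsDiscreteValuationRing B] :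
    ∃ (R : Type u) (_ : CommRing R) (_ : IsDomain R) (_ : IsDiscreteValuationRing R)
      (_ : IsAdicComplete (maximalIdeal R) R) (f : B →+* R) (_ : IsLocalHom f),
      Function.Injective f ∧ IsSepClosed (ResidueField R) ∧
      (letI := (ResidueField.map f).toAlgebra
       Algebra.IsSeparable (ResidueField B) (ResidueField R)) ∧
      (maximalIdeal B).map f = maximalIdeal R := by
  let S := Hensel.StrictHenz B
  obtain ⟨_, _⟩ := S7162.dvr_strictHenz B
  haveI hsh : Hensel.IsStrictHenselization B S := Groth.Agent.Hensel.isStrictHenselization_strictHenz B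
  have hinjS : Function.Injective (algebraMap B S) := by
    haveI := Groth.Agent.Hensel.faithfullyFlat_of_isStrictHenselization (R := B) (S := S)
    exact FaithfulSMul.algebraMap_injective B S
  let R := AdicCompletion (maximalIdeal S) S
  obtain ⟨_, _⟩ := (S0549.result S).1 ⟨inferInstance, inferInstance⟩
  haveI : IsLocalHom (algebraMap S R) := inferInstance
  let f : B →+* R := (algebraMap S R).comp (algebraMap B S)
  haveI : IsLocalHom f := RingHom.isLocalHom_comp _ _
  refine ⟨R, inferInstance, inferInstance, inferInstance, inferInstance, f, inferInstance,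
    (AdicCompletion.of_injective (maximalIdeal S) S).comp hinjS, ?_, ?_, ?_⟩
  · haveI : IsSepClosed (ResidueField S) := hsh.isSepClosure.sep_closed
    let e : ResidueField S ≃+* ResidueField R :=
      RingEquiv.ofBijective (ResidueField.map (algebraMap S R)) (AdicCompletion.residueField_map_bijective (R := S))
    exact IsSepClosed.of_exists_root _ fun q _ hq hs => by
      obtain ⟨x, hx⟩ := IsSepClosed.exists_root (q.map e.symm.toRingHom) (by
        rw [degree_map]; exact hq.degree_pos.ne') hs.map
      refine ⟨e x, ?_⟩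
      rw [IsRoot.def, eval_map] at hx
      have h2 := congrArg e hx
      rw [map_zero, ← RingEquiv.coe_toRingHom, hom_eval₂] at h2
      rw [← eval₂_id, ← h2]
      congr 1
      exact RingHom.ext fun z => (e.apply_symm_apply z).symm
  · letI := (ResidueField.map f).toAlgebra
    refine ⟨fun y => ?_⟩
    obtain ⟨x, rfl⟩ := (AdicCompletion.residueField_map_bijective (R := S)).2 y
    let g : ResidueField S →ₐ[ResidueField B] ResidueField R :=
      { ResidueField.map (algebraMap S R) with
        commutes' := fun z => by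
          obtain ⟨b, rfl⟩ := residue_surjective z
          rfl }
    haveI : Algebra.IsSeparable (ResidueField B) (ResidueField S) := hsh.isSepClosure.separable
    show (minpoly (ResidueField B) (g x)).Separable
    rw [minpoly.algHom_eq g g.injective]
    exact Algebra.IsSeparable.isSeparable _ x
  · exact ((Ideal.map_map (algebraMap B S) (algebraMap S R)).symm.trans
      (congrArg (Ideal.map (algebraMap S R)) (Groth.Agent.Hensel.map_maximalIdeal_of_isStrictHenselization (R := B) (S := S)))).trans
      AdicCompletion.maximalIdeal_eq_map.symm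

/-- Two embeddings of a normal extension differ by an automorphism. -/
theorem exists_equiv_of_normal {K E Ω : Type u} [Field K] [Field E] [Field Ω] [Algebra K E] [Algebra K Ω]
    [FiniteDimensional K E] [Normal K E] (g h : E →ₐ[K] Ω) :
    (∀ x, ∃ y, g y = h x) ∧ ∀ y, ∃ x, g y = h x := by
  have hle : h.fieldRange ≤ g.fieldRange := by
    rintro _ ⟨x, rfl⟩
    have h0 : h x ∈ ((minpoly K x).map (algebraMap K Ω)).roots := by
      rw [mem_roots ((minpoly.monic (Algebra.IsIntegral.isIntegral x)).map _).ne_zero, IsRoot.def, eval_map, ← aeval_def,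
        aeval_algHom_apply, minpoly.aeval, map_zero]
    have hs := Normal.splits (inferInstance : Normal K E) x
    rw [← g.comp_algebraMap, ← Polynomial.map_map, hs.roots_map (g : E →+* Ω)] at h0
    obtain ⟨e, -, he⟩ := Multiset.mem_map.1 h0
    exact ⟨e, he⟩
  haveI : FiniteDimensional K g.fieldRange := Module.Finite.equiv (AlgEquiv.ofInjectiveField g).toLinearEquiv
  have heq : h.fieldRange = g.fieldRange := IntermediateField.eq_of_le_of_finrank_eq hle 
    ((AlgEquiv.ofInjectiveField h).toLinearEquiv.finrank_eq.symm.trans (AlgEquiv.ofInjectiveField g).toLinearEquiv.finrank_eq)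
  exact ⟨fun x => hle ⟨x, rfl⟩, fun y => by
    have : g y ∈ h.fieldRange := heq ▸ ⟨y, rfl⟩
    exact ⟨this.choose, this.choose_spec.symm⟩⟩

set_option maxHeartbeats 1000000 in
/-- Weak solutions exist when infinite `p`-th powers of the residue field upstairs are separable downstairs. -/
theorem exists_weakSolution (p : ℕ) [Fact p.Prime] {A B K L : Type u} [CommRing A] [IsDomain A]
    [IsDiscreteValuationRing A] [CommRing B] [IsDomain B] [IsDiscreteValuationRing B] [Algebra A B]
    [IsLocalHom (algebraMap A B)] (hinj : Function.Injective (algebraMap A B))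
    [Field K] [Field L] [Algebra A K] [IsFractionRing A K] [Algebra B L] [IsFractionRing B L]
    [Algebra K L] [Algebra A L] [IsScalarTower A K L] [IsScalarTower A B L] [CharP (ResidueField A) p]
    (hres : ∀ x : ResidueField B, (∀ n : ℕ, ∃ y : ResidueField B, y ^ (p ^ n) = x) → IsSeparable (ResidueField A) x) :
    ∃ (K₁ : Type u) (_ : Field K₁) (_ : Algebra K K₁) (_ : FiniteDimensional K K₁), EtRam.IsWeakSolution B K L K₁ := by
  classical
  obtain ⟨R, _, _, _, _, f, _, hf, hsc, hsep, -⟩ := exists_complete_sep B
  let ψ : A →+* R := f.comp (algebraMap A B)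
  haveI : IsLocalHom ψ := RingHom.isLocalHom_comp _ _
  let Lh := FractionRing R
  let Ω := AlgebraicClosure Lh
  have hfL : Function.Injective ((algebraMap R Lh).comp f) := (IsFractionRing.injective R Lh).comp hf
  let lL : L →+* Lh := IsFractionRing.lift hfL
  have hlL : ∀ b, lL (algebraMap B L b) = algebraMap R Lh (f b) := IsFractionRing.lift_algebraMap hfL
  letI : Algebra K Ω := ((algebraMap Lh Ω).comp (lL.comp (algebraMap K L))).toAlgebra
  have hK : ∀ a : A, algebraMap K Ω (algebraMap A K a) = algebraMap Lh Ω (algebraMap R Lh (ψ a)) := fun a => by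
    show algebraMap Lh Ω (lL (algebraMap K L (algebraMap A K a))) = _
    rw [← IsScalarTower.algebraMap_apply A K L, IsScalarTower.algebraMap_apply A B L, hlL]
    rfl
  haveI : CharP (ResidueField B) p :=
    charP_of_injective_algebraMap (algebraMap (ResidueField A) (ResidueField B)).injective p
  letI algBR : Algebra (ResidueField B) (ResidueField R) := (ResidueField.map f).toAlgebra
  haveI : Algebra.IsSeparable (ResidueField B) (ResidueField R) := hsep
  haveI : CharP (ResidueField R) p := (RingHom.charP_iff (ResidueField.map f) (ResidueField.map f).injective p).1 inferInstance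
  haveI : IsSepClosed (ResidueField R) := hsc
  letI algAR : Algebra (ResidueField A) (ResidueField R) := (ResidueField.map ψ).toAlgebra
  haveI : IsScalarTower (ResidueField A) (ResidueField B) (ResidueField R) := IsScalarTower.of_algebraMap_eq fun z => by
    obtain ⟨a, rfl⟩ := residue_surjective z
    rfl
  obtain ⟨W, hW₀⟩ := exists_dominates (A := R) (K := Lh) (L := Ω)
  have hW : EtRam.Dominates R ((algebraMap Lh Ω).comp (algebraMap R Lh)) W := by
    rwa [← IsScalarTower.algebraMap_eq R Lh Ω]
  obtain ⟨E, F, hEfin, hEn, hEF, ϖ, hϖE, hϖ0, hϖ1, hmax⟩ := exists_normal_bound (K := K) (A := A) p ψ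
    (hf.comp hinj) hK (fun b hb => isSeparable_of_mem_pInfty hres hb) hW
  refine ⟨E, inferInstance, inferInstance, hEfin, ?_⟩
  intro M _ _ _ _ _ _ hgen WM hWM
  letI : Algebra B R := f.toAlgebra
  letI : Algebra L Lh := lL.toAlgebra
  haveI : IsLocalHom (algebraMap B R) := ‹IsLocalHom f›
  obtain ⟨Ω', _, _, ι, j, U, hιj, hUW, hUR⟩ :=
    exists_joint_dominating (B' := R) (L' := Lh) hf (fun b => (hlL b).symm) WM hWM
  letI : Algebra Lh Ω' := ι.toAlgebra
  let φ : Ω →ₐ[Lh] Ω' := IsAlgClosed.lift
  have hUW' : U.comap (φ : Ω →+* Ω') = W := Epp.valuationSubring_unique hW ⟨fun r => by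
      show φ (algebraMap Lh Ω (algebraMap R Lh r)) ∈ U
      rw [φ.commutes]; exact hUR.1 r, fun r hr => by
      rw [valuation_lt_one_comap]
      show U.valuation (φ (algebraMap Lh Ω (algebraMap R Lh r))) < 1
      rw [φ.commutes]; exact hUR.2 r hr⟩
  have hjL : ∀ l : L, j (algebraMap L M l) = φ (algebraMap Lh Ω (lL l)) := fun l => by
    rw [φ.commutes]; exact (RingHom.congr_fun hιj l).symm
  letI : Algebra K Ω' := ((φ : Ω →+* Ω').comp (algebraMap K Ω)).toAlgebra
  let g₁ : E →ₐ[K] Ω' :=
    { ((φ : Ω →+* Ω').comp E.val.toRingHom) with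
      commutes' := fun c => rfl }
  let h₁ : E →ₐ[K] Ω' :=
    { (j.comp (algebraMap E M)) with
      commutes' := fun c => by
        show j (algebraMap E M (algebraMap K E c)) = φ (algebraMap Lh Ω (lL (algebraMap K L c)))
        rw [← IsScalarTower.algebraMap_apply K E M, IsScalarTower.algebraMap_apply K L M, hjL] }
  obtain ⟨hr₁, hr₂⟩ := exists_equiv_of_normal g₁ h₁
  have hin : ∀ x : M, ∃ z ∈ F, j x = φ z := by
    intro x
    have hx : x ∈ Algebra.adjoin L (Set.range (algebraMap E M)) := hgen ▸ Algebra.mem_top
    induction hx using Algebra.adjoin_induction with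
    | mem y hy =>
      obtain ⟨e, rfl⟩ := hy
      obtain ⟨e', he'⟩ := hr₁ e
      exact ⟨(e' : Ω), hEF _ e'.2, he'.symm⟩
    | algebraMap l => exact ⟨_, F.algebraMap_mem (lL l), hjL l⟩
    | add y z _ _ hy hz =>
      obtain ⟨a, ha, ha'⟩ := hy; obtain ⟨b, hb, hb'⟩ := hz
      exact ⟨a + b, add_mem ha hb, by rw [map_add, map_add, ha', hb']⟩
    | mul y z _ _ hy hz =>
      obtain ⟨a, ha, ha'⟩ := hy; obtain ⟨b, hb, hb'⟩ := hz
      exact ⟨a * b, mul_mem ha hb, by rw [map_mul, map_mul, ha', hb']⟩
  subst hUW
  subst hUW'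
  refine isWeaklyUnramified_inclOfComap _ (algebraMap E M) fun x hx => ?_
  obtain ⟨a, ha⟩ := hr₂ ⟨ϖ, hϖE⟩
  have ha' : j (algebraMap E M a) = φ ϖ := ha.symm
  obtain ⟨z, hzF, hz⟩ := hin x
  rw [valuation_lt_one_comap, hz] at hx
  have hx' : (U.comap (φ : Ω →+* Ω')).valuation z < 1 := (valuation_lt_one_comap _ _).2 hx
  have hϖ1' : U.valuation (φ ϖ) < 1 := (valuation_lt_one_comap U (φ : Ω →+* Ω')).1 hϖ1
  refine ⟨a, (valuation_lt_one_comap _ _).2 (by rw [ha']; exact hϖ1'), ?_⟩
  have h2 : U.valuation (j x) ≤ U.valuation (j (algebraMap E M a)) := by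
    rw [hz, ha']
    exact valuation_le_of_comap U (φ : Ω →+* Ω') (hmax z hzF hx')
  by_contra hlt
  rw [not_le] at hlt
  have hx0 : x ≠ 0 := fun h => by simp [h] at hlt
  have h3 : (U.comap j).valuation (algebraMap E M a / x) < 1 := by
    rwa [map_div₀, div_lt_one₀ (zero_lt_iff.2 ((Valuation.ne_zero_iff _).2 hx0))]
  rw [valuation_lt_one_comap, map_div₀, map_div₀,
    div_lt_one₀ (zero_lt_iff.2 ((Valuation.ne_zero_iff _).2 ((map_ne_zero j).2 hx0)))] at h3
  exact absurd h2 (not_le.2 h3)

end Groth.Agent.EtRam7.EppGen
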